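import Groth.Agent.Lib.CI2.Smooth
import Groth.Agent.Lib.EtaleLocal.Ring
import Groth.Agent.Lib.Curve17.Basic
import Mathlib.AlgebraicGeometry.Morphisms.Smooth
import Mathlib.RingTheory.Jacobson.Ring

/-!
# A smooth integral curve over a field is smooth of relative dimension one
-/

set_option autoImplicit false
set_option linter.style.haveILetI false
set_option backward.isDefEq.respectTransparency.types false

universe u

open CategoryTheory CategoryTheory.Limits AlgebraicGeometry TopologicalSpace

namespace Groth.Agent.CurveCartier25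

/-- The local ring of a standard smooth algebra at a closed point has the relative dimension. -/
theorem ringKrullDim_atPrime_of_standardSmooth (k B : Type u) [Field k] [CommRing B] [Algebra k B] (n : ℕ)
    [Algebra.IsStandardSmoothOfRelativeDimension n k B] (M : Ideal B) [M.IsMaximal] :
    ringKrullDim (Localization.AtPrime M) = n := by
  haveI : Algebra.IsStandardSmooth k B := Algebra.IsStandardSmoothOfRelativeDimension.isStandardSmooth n
  obtain ⟨g, hg⟩ := Algebra.IsStandardSmoothOfRelativeDimension.exists_etale_mvPolynomial n k B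
  letI := g.toRingHom.toAlgebra
  haveI : Algebra.Etale (MvPolynomial (Fin n) k) B := hg
  haveI : IsScalarTower k (MvPolynomial (Fin n) k) B := .of_algebraMap_eq fun a => (g.commutes a).symm
  let p : Ideal (MvPolynomial (Fin n) k) := M.comap (algebraMap (MvPolynomial (Fin n) k) B)
  haveI : p.IsMaximal := by
    letI : Field (B ⧸ M) := Ideal.Quotient.field M
    haveI : Module.Finite k (B ⧸ M) := finite_of_finite_type_of_isJacobsonRing k (B ⧸ M)
    haveI : Module.Finite (MvPolynomial (Fin n) k) (B ⧸ M) := Module.Finite.of_restrictScalars_finite k _ _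
    have := Ideal.isMaximal_comap_of_isIntegral_of_isMaximal (R := MvPolynomial (Fin n) k) (⊥ : Ideal (B ⧸ M))
    rwa [← RingHom.ker_eq_comap_bot, IsScalarTower.algebraMap_eq (MvPolynomial (Fin n) k) B (B ⧸ M),
      ← RingHom.comap_ker, Ideal.Quotient.algebraMap_eq, Ideal.mk_ker] at this
  haveI : M.LiesOver p := ⟨rfl⟩
  letI : Algebra (Localization.AtPrime p) (Localization.AtPrime M) :=
    (Localization.localRingHom p M (algebraMap (MvPolynomial (Fin n) k) B) rfl).toAlgebra
  haveI : IsScalarTower (MvPolynomial (Fin n) k) (Localization.AtPrime p) (Localization.AtPrime M) :=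
    IsScalarTower.of_algebraMap_eq fun a => by
      rw [RingHom.algebraMap_toAlgebra, Localization.localRingHom_to_map]
      exact IsScalarTower.algebraMap_apply (MvPolynomial (Fin n) k) B (Localization.AtPrime M) a
  rw [EtaleLocal.ringKrullDim_eq p M, IsLocalization.AtPrime.ringKrullDim_eq_height p,
    CI2.height_maximal_mvPolynomial]
  rfl

/-- A smooth integral curve over a field is smooth of relative dimension one. -/
theorem smoothOfRelativeDimension_one {k : Type u} [Field k] {X : Scheme.{u}}
    (f : X ⟶ Spec (CommRingCat.of k)) [Smooth f] [IsIntegral X] (hd : topologicalKrullDim X = 1) :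
    SmoothOfRelativeDimension 1 f := by
  refine ⟨fun x => ?_⟩
  obtain ⟨U, hU, V, hV, hxV, e, hs⟩ := Smooth.exists_isStandardSmooth f x
  refine ⟨U, hU, V, hV, hxV, e, ?_⟩
  haveI : Subsingleton (Spec (CommRingCat.of k)) := inferInstanceAs (Subsingleton (PrimeSpectrum k))
  have hUtop : U = ⊤ := Opens.ext (Set.eq_univ_of_forall fun y => by
    rw [Subsingleton.elim (α := Spec (CommRingCat.of k)) y (f x)]; exact e hxV)
  subst hUtop
  let ε : k ≃+* Γ(Spec (CommRingCat.of k), ⊤) :=
    (Scheme.ΓSpecIso (CommRingCat.of k)).symm.commRingCatIsoToRingEquiv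
  letI : Algebra k Γ(X, V) := ((f.appLE ⊤ V e).hom.comp ε.toRingHom).toAlgebra
  haveI : Algebra.IsStandardSmooth k Γ(X, V) :=
    RingHom.isStandardSmooth_respectsIso.2 _ ε hs
  obtain ⟨ι, σ, _, _, ⟨P⟩⟩ := (inferInstance : Algebra.IsStandardSmooth k Γ(X, V)).out
  haveI hn : Algebra.IsStandardSmoothOfRelativeDimension P.dimension k Γ(X, V) :=
    ⟨ι, σ, inferInstance, inferInstance, P, rfl⟩
  -- a closed point of `V`
  haveI : JacobsonSpace X := LocallyOfFiniteType.jacobsonSpace f
  obtain ⟨z, hzV, hz⟩ := nonempty_inter_closedPoints (X := X) ⟨x, hxV⟩ V.2.isLocallyClosed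
  let M := hV.primeIdealOf ⟨z, hzV⟩
  haveI hM : M.asIdeal.IsMaximal := by
    rw [← PrimeSpectrum.isClosed_singleton_iff_isMaximal]
    have h1 : (hV.fromSpec ⁻¹' {z} : Set (PrimeSpectrum Γ(X, V))) = {M} := by
      ext y
      show hV.fromSpec y = z ↔ y = M
      constructor
      · intro h
        exact hV.fromSpec.isOpenEmbedding.injective (h.trans (hV.fromSpec_primeIdealOf ⟨z, hzV⟩).symm)
      · rintro rfl
        exact hV.fromSpec_primeIdealOf ⟨z, hzV⟩
    have h2 : IsClosed (hV.fromSpec ⁻¹' {z} : Set (PrimeSpectrum Γ(X, V))) := hz.preimage hV.fromSpec.continuous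
    rwa [h1] at h2
  have h1 := ringKrullDim_atPrime_of_standardSmooth k Γ(X, V) P.dimension M.asIdeal
  letI := X.presheaf.algebra_section_stalk (U := V) ⟨z, hzV⟩
  haveI := hV.isLocalization_stalk ⟨z, hzV⟩
  rw [ringKrullDim_eq_of_ringEquiv (IsLocalization.algEquiv M.asIdeal.primeCompl (Localization.AtPrime M.asIdeal)
    (X.presheaf.stalk z)).toRingEquiv, Curve17.ringKrullDim_stalk hd hz] at h1
  have h2 : P.dimension = 1 := by exact_mod_cast h1.symm
  rw [h2] at hn
  have h3 : RingHom.IsStandardSmoothOfRelativeDimension 1 ((f.appLE ⊤ V e).hom.comp ε.toRingHom) :=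
    (RingHom.isStandardSmoothOfRelativeDimension_algebraMap 1).2 hn
  have h4 := (RingHom.isStandardSmoothOfRelativeDimension_respectsIso (n := 1)).2 _ ε.symm h3
  convert h4 using 1
  ext a
  exact congrArg (f.appLE ⊤ V e).hom (ε.apply_symm_apply a).symm

end Groth.Agent.CurveCartier25
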