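import Groth.Agent.Lib.CurveCartier25.Ring
import Groth.Agent.Lib.EffCartier.Mul
import Mathlib.AlgebraicGeometry.Morphisms.QuasiFinite
import Mathlib.AlgebraicGeometry.Morphisms.FinitePresentation
import Mathlib.AlgebraicGeometry.Morphisms.Smooth
import Mathlib.AlgebraicGeometry.Morphisms.Flat

/-!
# Relative divisors on smooth curves over a base
-/

set_option autoImplicit false
set_option backward.isDefEq.respectTransparency.types false

universe u

open CategoryTheory AlgebraicGeometry TopologicalSpace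
open scoped nonZeroDivisors

namespace Groth.Agent.CurveCartier25

open AlgebraicGeometry.Scheme

variable {X S : Scheme.{u}} (f : X ⟶ S) (I : X.IdealSheafData)

lemma appLE_subscheme (U : S.affineOpens) (V : X.affineOpens) (e : V.1 ≤ f ⁻¹ᵁ U.1)
    (e' : I.subschemeι ⁻¹ᵁ V.1 ≤ (I.subschemeι ≫ f) ⁻¹ᵁ U.1) :
    (I.subschemeι ≫ f).appLE U.1 (I.subschemeι ⁻¹ᵁ V.1) e' =
      (f.appLE U.1 V.1 e ≫ CommRingCat.ofHom (Ideal.Quotient.mk (I.ideal V))) ≫ (I.subschemeObjIso V).inv := by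
  rw [← Scheme.Hom.appLE_comp_appLE I.subschemeι f U.1 V.1 (I.subschemeι ⁻¹ᵁ V.1) e le_rfl,
    ← Scheme.Hom.app_eq_appLE, Category.assoc, IdealSheafData.subschemeι_app]

/-- Properties of `D ⟶ S` read on the quotient by the ideal on an affine chart. -/
lemma prop_quotient {P : MorphismProperty Scheme.{u}}
    {Q : ∀ {R A : Type u} [CommRing R] [CommRing A], (R →+* A) → Prop} [HasRingHomProperty P Q]
    (h : P (I.subschemeι ≫ f)) (U : S.affineOpens) (V : X.affineOpens) (e : V.1 ≤ f ⁻¹ᵁ U.1) :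
    Q ((Ideal.Quotient.mk (I.ideal V)).comp (f.appLE U.1 V.1 e).hom) := by
  have e' : I.subschemeι ⁻¹ᵁ V.1 ≤ (I.subschemeι ≫ f) ⁻¹ᵁ U.1 := I.subschemeι.preimage_mono e
  have h1 := HasRingHomProperty.appLE P _ h U ⟨_, V.2.preimage I.subschemeι⟩ e'
  rw [appLE_subscheme f I U V e e'] at h1
  have h2 := (HasRingHomProperty.isLocal_ringHomProperty P (Q := Q)).respectsIso.1
      _ (I.subschemeObjIso V).commRingCatIsoToRingEquiv h1
  have e2 : (I.subschemeObjIso V).commRingCatIsoToRingEquiv.toRingHom.comp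
      ((f.appLE U.1 V.1 e ≫ CommRingCat.ofHom (Ideal.Quotient.mk (I.ideal V))) ≫
        (I.subschemeObjIso V).inv).hom =
      (Ideal.Quotient.mk (I.ideal V)).comp (f.appLE U.1 V.1 e).hom :=
    RingHom.ext fun a => (I.subschemeObjIso V).inv_hom_id_apply _
  exact e2 ▸ h2

lemma appLE_prop_of_quotient {Q : ∀ {R A : Type u} [CommRing R] [CommRing A], (R →+* A) → Prop}
    (hQ : RingHom.RespectsIso Q) (U : S.affineOpens) (V : X.affineOpens) (e : V.1 ≤ f ⁻¹ᵁ U.1)
    (e' : I.subschemeι ⁻¹ᵁ V.1 ≤ (I.subschemeι ≫ f) ⁻¹ᵁ U.1)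
    (h : Q ((Ideal.Quotient.mk (I.ideal V)).comp (f.appLE U.1 V.1 e).hom)) :
    Q ((I.subschemeι ≫ f).appLE U.1 (I.subschemeι ⁻¹ᵁ V.1) e').hom := by
  rw [appLE_subscheme f I U V e e']
  exact hQ.1 _ (I.subschemeObjIso V).symm.commRingCatIsoToRingEquiv h

variable [SmoothOfRelativeDimension 1 f]

/-- A flat, locally quasi-finite, locally finitely presented closed subscheme of a smooth curve is an
effective Cartier divisor. -/
theorem isEffCartierIdeal (hq : LocallyQuasiFinite (I.subschemeι ≫ f)) (hf : Flat (I.subschemeι ≫ f))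
    (hp : LocallyOfFinitePresentation (I.subschemeι ≫ f)) : BlowUp.IsEffCartierIdeal I := by
  intro x
  obtain ⟨U, hU, V, hV, hxV, e, hs⟩ :=
    SmoothOfRelativeDimension.exists_isStandardSmoothOfRelativeDimension (n := 1) (f := f) x
  let A := Γ(S, U)
  let C := Γ(X, V)
  algebraize [(f.appLE U V e).hom]
  let J : Ideal C := I.ideal ⟨V, hV⟩
  haveI : Algebra.IsStandardSmoothOfRelativeDimension 1 A C := hs
  haveI : Algebra.IsStandardSmooth A C := Algebra.IsStandardSmoothOfRelativeDimension.isStandardSmooth 1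
  have halg : algebraMap A (C ⧸ J) = (Ideal.Quotient.mk J).comp (f.appLE U V e).hom := rfl
  haveI : Module.Flat A (C ⧸ J) := by
    rw [← RingHom.flat_algebraMap_iff, halg]
    exact prop_quotient (P := @Flat) f I hf ⟨U, hU⟩ ⟨V, hV⟩ e
  haveI : Algebra.QuasiFinite A (C ⧸ J) := by
    rw [← RingHom.quasiFinite_algebraMap (R := A) (S := C ⧸ J), halg]
    exact prop_quotient (P := @LocallyQuasiFinite) f I hq ⟨U, hU⟩ ⟨V, hV⟩ e
  haveI : Algebra.FinitePresentation A (C ⧸ J) := by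
    rw [← RingHom.finitePresentation_algebraMap, halg]
    exact prop_quotient (P := @LocallyOfFinitePresentation) f I hp ⟨U, hU⟩ ⟨V, hV⟩ e
  have hJ : J.FG := by
    have := Algebra.FinitePresentation.ker_fG_of_surjective (Ideal.Quotient.mkₐ A J)
      Ideal.Quotient.mk_surjective
    rwa [show RingHom.ker (Ideal.Quotient.mkₐ A J).toRingHom = J from Ideal.mk_ker] at this
  let q := (hV.primeIdealOf ⟨x, hxV⟩).asIdeal
  have hxg : ∀ g : C, x ∈ X.basicOpen g ↔ g ∉ q := fun g => by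
    have h1 := SetLike.ext_iff.1 (hV.fromSpec_preimage_basicOpen g) (hV.primeIdealOf ⟨x, hxV⟩)
    have h2 : hV.fromSpec (hV.primeIdealOf ⟨x, hxV⟩) = x := hV.fromSpec_primeIdealOf ⟨x, hxV⟩
    rw [← h2]
    exact h1
  by_cases hle : J ≤ q
  · obtain ⟨g, hg, hL⟩ := exists_span_singleton (A := A) J hJ q hle
    have := hV.isLocalization_basicOpen g
    letI : Algebra C Γ(X, X.basicOpen g) := (X.presheaf.map (homOfLE (X.basicOpen_le g)).op).hom.toAlgebra
    obtain ⟨h, hh, hspan⟩ := hL Γ(X, X.basicOpen g)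
    refine ⟨X.affineBasicOpen (U := ⟨V, hV⟩) g, ?_, h, hh, ?_⟩
    · exact (hxg g).2 hg
    · exact (I.map_ideal (X.affineBasicOpen_le (V := ⟨V, hV⟩) g)).symm.trans hspan
  · obtain ⟨g, hgJ, hg⟩ := SetLike.not_le_iff_exists.1 hle
    refine ⟨X.affineBasicOpen (U := ⟨V, hV⟩) g, ?_, 1, one_mem _, ?_⟩
    · show x ∈ X.basicOpen g
      exact (hxg g).2 hg
    · rw [Ideal.span_singleton_one, ← I.map_ideal (X.affineBasicOpen_le (V := ⟨V, hV⟩) g)]
      refine Ideal.eq_top_of_isUnit_mem _ (Ideal.mem_map_of_mem _ hgJ) ?_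
      exact RingedSpace.isUnit_res_basicOpen _ _

/-- A flat effective Cartier divisor of a smooth curve is locally quasi-finite and of finite presentation. -/
theorem locallyQuasiFinite_and_lfp (hI : BlowUp.IsEffCartierIdeal I) (hf : Flat (I.subschemeι ≫ f)) :
    LocallyQuasiFinite (I.subschemeι ≫ f) ∧ LocallyOfFinitePresentation (I.subschemeι ≫ f) := by
  suffices key : ∀ z : I.subscheme, ∃ (U : S.affineOpens) (V : I.subscheme.affineOpens) (_ : z ∈ V.1)
      (e : V.1 ≤ (I.subschemeι ≫ f) ⁻¹ᵁ U.1), ((I.subschemeι ≫ f).appLE U.1 V.1 e).hom.QuasiFinite ∧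
        ((I.subschemeι ≫ f).appLE U.1 V.1 e).hom.FinitePresentation by
    refine ⟨(HasRingHomProperty.iff_exists_appLE (P := @LocallyQuasiFinite)
      (RingHom.QuasiFinite.stableUnderComposition.stableUnderCompositionWithLocalizationAway
        RingHom.QuasiFinite.holdsForLocalizationAway).left).2 fun z => ?_,
      (HasRingHomProperty.iff_exists_appLE (P := @LocallyOfFinitePresentation)
      (RingHom.finitePresentation_stableUnderComposition.stableUnderCompositionWithLocalizationAway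
        RingHom.finitePresentation_holdsForLocalizationAway).left).2 fun z => ?_⟩
    · obtain ⟨U, V, hz, e, h, -⟩ := key z; exact ⟨U, V, hz, e, h⟩
    · obtain ⟨U, V, hz, e, -, h⟩ := key z; exact ⟨U, V, hz, e, h⟩
  intro z
  obtain ⟨U, hU, V₀, hV₀, hxV₀, e₀, hs₀⟩ :=
    SmoothOfRelativeDimension.exists_isStandardSmoothOfRelativeDimension (n := 1) (f := f) (I.subschemeι z)
  obtain ⟨W, hxW, hWV, h, hh, hspan⟩ : ∃ W : X.affineOpens, I.subschemeι z ∈ W.1 ∧ W.1 ≤ V₀ ∧
      ∃ h, h ∈ Γ(X, W.1)⁰ ∧ I.ideal W = Ideal.span {h} := by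
    obtain ⟨W₁, hxW₁, f₁, hf₁⟩ := EffCartier.isEffCartierIdeal_iff.1 hI (I.subschemeι z)
    obtain ⟨r, s, hrs, hxr⟩ := exists_basicOpen_le_affine_inter hV₀ W₁.2 (I.subschemeι z) ⟨hxV₀, hxW₁⟩
    obtain ⟨f₂, hf₂⟩ := (hf₁.basicOpen s).congr (V := X.affineBasicOpen (U := ⟨V₀, hV₀⟩) r) (Subtype.ext hrs.symm)
    exact ⟨_, hxr, X.basicOpen_le r, f₂, hf₂.mem, hf₂.ideal_eq⟩
  -- standard smooth on the smaller chart
  obtain ⟨r, hr, hxr⟩ := hV₀.exists_basicOpen_le (V := W.1) ⟨_, hxW⟩ hxV₀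
  let V : X.affineOpens := X.affineBasicOpen (U := ⟨V₀, hV₀⟩) r
  have e : V.1 ≤ f ⁻¹ᵁ U := (X.basicOpen_le r).trans e₀
  have hs : (f.appLE U V.1 e).hom.IsStandardSmoothOfRelativeDimension 1 := by
    show RingHom.IsStandardSmoothOfRelativeDimension 1 (f.appLE U (X.basicOpen r) e).hom
    rw [← f.appLE_map e₀ (homOfLE (X.basicOpen_le r)).op]
    have := hV₀.isLocalization_basicOpen r
    exact (RingHom.isStandardSmoothOfRelativeDimension_stableUnderCompositionWithLocalizationAway 1).right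
      _ r _ hs₀
  obtain ⟨g, hg, hgspan⟩ : ∃ g, g ∈ Γ(X, V.1)⁰ ∧ I.ideal V = Ideal.span {g} := by
    obtain ⟨w, hw, hxw⟩ := W.2.exists_basicOpen_le (V := V.1) ⟨_, hxr⟩ hxW
    refine ⟨X.presheaf.map (homOfLE hr).op h, ?_, ?_⟩
    · exact EffCartier.mem_nonZeroDivisors_of_ideal_eq hI V _ (by
        rw [← I.map_ideal (U := V) (V := W) hr, hspan, Ideal.map_span, Set.image_singleton]; rfl)
    · rw [← I.map_ideal (U := V) (V := W) hr, hspan, Ideal.map_span, Set.image_singleton]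
      rfl
  have e' : I.subschemeι ⁻¹ᵁ V.1 ≤ (I.subschemeι ≫ f) ⁻¹ᵁ U := I.subschemeι.preimage_mono e
  refine ⟨⟨U, hU⟩, ⟨_, V.2.preimage I.subschemeι⟩, hxr, e',
    appLE_prop_of_quotient f I RingHom.QuasiFinite.respectsIso ⟨U, hU⟩ V e e' ?_,
    appLE_prop_of_quotient f I RingHom.finitePresentation_respectsIso ⟨U, hU⟩ V e e' ?_⟩
  all_goals algebraize [(f.appLE U V.1 e).hom]
  · haveI : Module.Flat Γ(S, U) (Γ(X, V.1) ⧸ I.ideal V) := by
      rw [← RingHom.flat_algebraMap_iff]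
      exact prop_quotient (P := @Flat) f I hf ⟨U, hU⟩ V e
    exact RingHom.quasiFinite_algebraMap.2 (quasiFinite_of_span_singleton (I.ideal V) hg hgspan)
  · haveI : Algebra.IsStandardSmooth Γ(S, U) Γ(X, V.1) :=
      Algebra.IsStandardSmoothOfRelativeDimension.isStandardSmooth 1
    exact RingHom.finitePresentation_algebraMap.2
      (Algebra.FinitePresentation.quotient (hgspan ▸ Submodule.fg_span_singleton g))

/-- A finite locally free closed subscheme of a smooth curve is a relative effective Cartier divisor. -/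
theorem isEffCartierIdeal_of_isFinLocFree (h : IsFinite (I.subschemeι ≫ f)) (hf : Flat (I.subschemeι ≫ f))
    (hp : LocallyOfFinitePresentation (I.subschemeι ≫ f)) : BlowUp.IsEffCartierIdeal I :=
  isEffCartierIdeal f I inferInstance hf hp

end Groth.Agent.CurveCartier25
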