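import Groth.Agent.Lib.SmoothReg17.Basic
import Groth.Agent.Lib.FlatH4.SliceFlat
import Groth.Agent.Lib.EtaleLocal.Ring
import Groth.Agent.Lib.RegLoc.UFD
import Mathlib.RingTheory.QuasiFinite.Basic
import Mathlib.RingTheory.Flat.EquationalCriterion
import Mathlib.RingTheory.DiscreteValuationRing.TFAE
import Mathlib.RingTheory.Algebraic.MvPolynomial
import Mathlib.RingTheory.Nakayama
import Mathlib.RingTheory.Smooth.Flat
import Mathlib.RingTheory.RingHom.StandardSmooth
import Mathlib.RingTheory.PrincipalIdealDomain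
import Mathlib.Algebra.MvPolynomial.Equiv

/-!
# Relative divisors on smooth algebras of relative dimension one
-/

set_option autoImplicit false
set_option linter.style.haveILetI false
set_option backward.isDefEq.respectTransparency.types false

universe u

namespace Groth.Agent.CurveCartier25

open TensorProduct Algebra
open scoped nonZeroDivisors

/-- In a local domain, a nonzero principal ideal generated by a set is generated by one of its elements. -/
theorem exists_mem_span_eq {D : Type u} [CommRing D] [IsDomain D] [IsLocalRing D] [IsPrincipalIdealRing D]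
    {s : Set D} (h0 : Ideal.span s ≠ ⊥) : ∃ a ∈ s, Ideal.span s = Ideal.span {a} := by
  obtain ⟨d, hd⟩ := (IsPrincipalIdealRing.principal (Ideal.span s)).principal
  rw [← Ideal.span] at hd
  by_contra hne
  push Not at hne
  have hle : Ideal.span s ≤ Ideal.span {d} * IsLocalRing.maximalIdeal D := by
    refine Ideal.span_le.2 fun a ha => ?_
    obtain ⟨e, he⟩ := Ideal.mem_span_singleton'.1 (hd ▸ Ideal.subset_span ha : a ∈ Ideal.span {d})
    rw [SetLike.mem_coe, ← he, mul_comm e d]
    refine Ideal.mul_mem_mul (Ideal.mem_span_singleton_self d) ?_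
    rw [IsLocalRing.mem_maximalIdeal, mem_nonunits_iff]
    intro hu
    refine hne a ha ?_
    rw [hd, ← he, mul_comm e d, Ideal.span_singleton_mul_right_unit hu]
  obtain ⟨z, hz, hdz⟩ := Ideal.mem_span_singleton_mul.1 (hle (hd.symm ▸ Ideal.mem_span_singleton_self d))
  have hd0 : d ≠ 0 := fun h => h0 (by rw [hd, h]; simp)
  rw [mul_eq_left₀ hd0] at hdz
  rw [hdz, IsLocalRing.mem_maximalIdeal, mem_nonunits_iff] at hz
  exact hz isUnit_one

/-- The local rings of a smooth algebra of relative dimension one over a field are principal ideal domains. -/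
theorem isPID_localization {k F : Type u} [Field k] [CommRing F] [Algebra k F]
    [Algebra.IsStandardSmoothOfRelativeDimension 1 k F] (Q : Ideal F) [Q.IsPrime] :
    IsDomain (Localization.AtPrime Q) ∧ IsPrincipalIdealRing (Localization.AtPrime Q) := by
  haveI : Algebra.IsStandardSmooth k F := Algebra.IsStandardSmoothOfRelativeDimension.isStandardSmooth 1
  haveI := SmoothReg17.isRegularLocalRing_of_smooth (algebraMap k F)
    (RingHom.smooth_algebraMap.2 inferInstance) Q
  haveI hdom : IsDomain (Localization.AtPrime Q) := RegLoc.isDomain _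
  refine ⟨hdom, ?_⟩
  obtain ⟨g, hg⟩ := Algebra.IsStandardSmoothOfRelativeDimension.exists_etale_mvPolynomial 1 k F
  let R := MvPolynomial (Fin 1) k
  let e : R ≃ₐ[k] Polynomial k := MvPolynomial.uniqueAlgEquiv k (Fin 1)
  haveI : IsPrincipalIdealRing R :=
    IsPrincipalIdealRing.of_surjective e.symm.toRingEquiv.toRingHom e.symm.surjective
  letI := g.toRingHom.toAlgebra
  haveI : Algebra.Etale R F := hg
  let p : Ideal R := Q.comap (algebraMap R F)
  haveI : Q.LiesOver p := ⟨rfl⟩
  letI : Algebra (Localization.AtPrime p) (Localization.AtPrime Q) :=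
    (Localization.localRingHom p Q (algebraMap R F) rfl).toAlgebra
  haveI : IsScalarTower R (Localization.AtPrime p) (Localization.AtPrime Q) :=
    IsScalarTower.of_algebraMap_eq fun a => by
      rw [RingHom.algebraMap_toAlgebra, Localization.localRingHom_to_map]
      exact IsScalarTower.algebraMap_apply R F (Localization.AtPrime Q) a
  haveI := EtaleLocal.isLocalHom_algebraMap p Q
  haveI := EtaleLocal.essFiniteType p Q
  haveI := EtaleLocal.formallyUnramified p Q
  have hm := Algebra.FormallyUnramified.map_maximalIdeal (R := Localization.AtPrime p)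
    (S := Localization.AtPrime Q)
  have hP : (IsLocalRing.maximalIdeal (Localization.AtPrime Q)).IsPrincipal := by
    obtain ⟨a, ha⟩ := (IsPrincipalIdealRing.principal p).principal
    rw [← Ideal.span] at ha
    rw [← hm, ← Localization.AtPrime.map_eq_maximalIdeal, Ideal.map_map,
      congrArg (Ideal.map ((algebraMap (Localization.AtPrime p) (Localization.AtPrime Q)).comp
        (algebraMap R (Localization.AtPrime p)))) ha, Ideal.map_span, Set.image_singleton]
    exact ⟨⟨_, rfl⟩⟩
  exact ((tfae_of_isNoetherianRing_of_isLocalRing_of_isDomain (Localization.AtPrime Q)).out 4 0).1 hP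

section relative

variable {A C : Type u} [CommRing A] [CommRing C] [Algebra A C]

/-- Flatness of `C ⧸ I`: elements of `I ∩ pC` lie in `pI`. -/
theorem mem_map_mul_of_flat (I : Ideal C) [Module.Flat A (C ⧸ I)] (p : Ideal A) {y : C} (hy : y ∈ I)
    (hyp : y ∈ p.map (algebraMap A C)) : y ∈ p.map (algebraMap A C) * I := by
  classical
  obtain ⟨c, hc, hsum⟩ := Submodule.mem_span_set.1 hyp
  rw [Finsupp.sum] at hsum
  choose a ha hai using fun i : c.support => hc i.2
  have hrel : ∑ i, a i • Ideal.Quotient.mk I (c i.1) = 0 := by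
    have : Ideal.Quotient.mk I y = 0 := Ideal.Quotient.eq_zero_iff_mem.2 hy
    rw [← hsum, ← Finset.sum_coe_sort, map_sum] at this
    rw [← this]
    refine Finset.sum_congr rfl fun i _ => ?_
    rw [Algebra.smul_def, IsScalarTower.algebraMap_apply A C (C ⧸ I), Ideal.Quotient.algebraMap_eq, hai,
      smul_eq_mul, map_mul, mul_comm]
  obtain ⟨n, b, z, hxz, hb⟩ := Module.Flat.isTrivialRelation_of_sum_smul_eq_zero hrel
  choose z' hz' using fun j => Ideal.Quotient.mk_surjective (z j)
  have he : ∀ i : c.support, c i.1 - ∑ j, b i j • z' j ∈ I := fun i => by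
    rw [← Ideal.Quotient.eq_zero_iff_mem, map_sub, map_sum, sub_eq_zero]
    refine (hxz i).trans ?_
    refine Finset.sum_congr rfl fun j _ => ?_
    rw [← hz' j, Algebra.smul_def, Algebra.smul_def, map_mul]
    rfl
  have hy' : y = ∑ i : c.support, algebraMap A C (a i) * (c i.1 - ∑ j, b i j • z' j) := by
    simp only [mul_sub, Finset.sum_sub_distrib, Finset.mul_sum, Algebra.smul_def]
    conv_rhs => arg 2; rw [Finset.sum_comm]
    have : ∀ j, ∑ i : c.support, algebraMap A C (a i) * (algebraMap A C (b i j) * z' j) = 0 := fun j => by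
      simp only [← mul_assoc, ← map_mul, ← Finset.sum_mul, ← map_sum]
      rw [hb j, map_zero, zero_mul]
    rw [Finset.sum_congr rfl fun j _ => this j, Finset.sum_const_zero, sub_zero, ← hsum,
      ← Finset.sum_coe_sort]
    refine Finset.sum_congr rfl fun i _ => ?_
    rw [hai, smul_eq_mul, mul_comm]
  rw [hy']
  exact Ideal.sum_mem _ fun i _ => Ideal.mul_mem_mul (Ideal.mem_map_of_mem _ (ha i)) (he i)

variable (p : Ideal A) [p.IsPrime] (Q : Ideal (p.Fiber C)) [Q.IsPrime]

/-- The map to the local ring of the fibre. -/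
noncomputable def theta : C →+* Localization.AtPrime Q :=
  (algebraMap (p.Fiber C) (Localization.AtPrime Q)).comp
    (Algebra.TensorProduct.includeRight : C →ₐ[A] p.Fiber C).toRingHom

omit [Q.IsPrime] in
lemma one_tmul_eq_zero {c : C} (hc : c ∈ p.map (algebraMap A C)) : (1 : p.ResidueField) ⊗ₜ[A] c = 0 := by
  have hle : p.map (algebraMap A C) ≤
      RingHom.ker (Algebra.TensorProduct.includeRight : C →ₐ[A] p.Fiber C).toRingHom :=
    Ideal.map_le_iff_le_comap.2 fun a ha => by
      rw [Ideal.mem_comap, RingHom.mem_ker, AlgHom.toRingHom_eq_coe, RingHom.coe_coe, AlgHom.commutes,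
        IsScalarTower.algebraMap_apply A p.ResidueField (p.Fiber C),
        Ideal.algebraMap_residueField_eq_zero.2 ha, map_zero]
  exact hle hc

variable {Q} {q : Ideal C} [q.IsPrime]

variable (hQ : Q.comap (Algebra.TensorProduct.includeRight : C →ₐ[A] p.Fiber C).toRingHom = q)

include hQ in
lemma isUnit_theta {t : C} (ht : t ∉ q) : IsUnit (theta p Q t) :=
  IsLocalization.map_units (Localization.AtPrime Q)
    (⟨_, fun h => ht (hQ ▸ (Ideal.mem_comap.2 h))⟩ : Q.primeCompl)

include hQ in
lemma algebraMap_notMem_of_notMem {a : A} (ha : a ∉ p) : algebraMap A C a ∉ q := fun h => by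
  rw [← hQ, Ideal.mem_comap, AlgHom.toRingHom_eq_coe, RingHom.coe_coe, AlgHom.commutes] at h
  exact ha ((Ideal.over_def Q p).symm ▸ h)

omit [q.IsPrime] in
include hQ in
lemma exists_eq_theta_div (d : Localization.AtPrime Q) :
    ∃ c, ∃ t ∉ q, d * theta p Q t = theta p Q c := by
  obtain ⟨⟨z, s⟩, hzs⟩ := IsLocalization.surj Q.primeCompl d
  obtain ⟨a, ha, c, hc⟩ := Ideal.Fiber.exists_smul_eq_one_tmul p z
  obtain ⟨b, hb, e, he⟩ := Ideal.Fiber.exists_smul_eq_one_tmul p (s : p.Fiber C)
  refine ⟨algebraMap A C b * c, algebraMap A C a * e, ?_, ?_⟩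
  · intro hmem
    rw [← hQ, Ideal.mem_comap, map_mul] at hmem
    change _ * ((1 : p.ResidueField) ⊗ₜ[A] e : p.Fiber C) ∈ Q at hmem
    rw [← he, Algebra.smul_def, AlgHom.toRingHom_eq_coe, RingHom.coe_coe, AlgHom.commutes] at hmem
    have ha' : algebraMap A (p.Fiber C) a ∉ Q := fun h => ha ((Ideal.over_def Q p).symm ▸ h)
    have hb' : algebraMap A (p.Fiber C) b ∉ Q := fun h => hb ((Ideal.over_def Q p).symm ▸ h)
    exact (Ideal.IsPrime.mem_or_mem ‹_› hmem).elim ha' fun h =>
      (Ideal.IsPrime.mem_or_mem ‹_› h).elim hb' s.2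
  · simp only [theta, RingHom.comp_apply, map_mul, AlgHom.toRingHom_eq_coe, RingHom.coe_coe,
      AlgHom.commutes, Algebra.TensorProduct.includeRight_apply, ← hc, ← he, Algebra.smul_def]
    linear_combination (algebraMap (p.Fiber C) (Localization.AtPrime Q) (algebraMap A (p.Fiber C) a) *
      algebraMap (p.Fiber C) (Localization.AtPrime Q) (algebraMap A (p.Fiber C) b)) * hzs

include hQ in
lemma theta_eq_zero_iff {x : C} :
    theta p Q x = 0 ↔ ∃ s ∉ q, s * x ∈ p.map (algebraMap A C) := by
  constructor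
  · intro hx
    obtain ⟨⟨z, hz⟩, hzx⟩ := (IsLocalization.map_eq_zero_iff Q.primeCompl _ _).1 hx
    obtain ⟨a, ha, s, hs⟩ := Ideal.Fiber.exists_smul_eq_one_tmul p z
    have h1 : (1 : p.ResidueField) ⊗ₜ[A] (s * x) = 0 := by
      have h2 : ((1 : p.ResidueField) ⊗ₜ[A] s : p.Fiber C) * ((1 : p.ResidueField) ⊗ₜ[A] x) = 0 := by
        rw [← hs, smul_mul_assoc]
        exact (congrArg (a • ·) hzx).trans (smul_zero a)
      rwa [Algebra.TensorProduct.tmul_mul_tmul, one_mul] at h2
    obtain ⟨b, hb, hbx⟩ := FlatH4.exists_smul_mem_of_one_tmul_eq_zero p h1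
    refine ⟨algebraMap A C b * s, fun hmem => ?_, by rwa [mul_assoc, ← Algebra.smul_def]⟩
    refine (Ideal.IsPrime.mem_or_mem ‹_› hmem).elim (algebraMap_notMem_of_notMem p hQ hb) fun hs' => ?_
    rw [← hQ, Ideal.mem_comap] at hs'
    change ((1 : p.ResidueField) ⊗ₜ[A] s : p.Fiber C) ∈ Q at hs'
    rw [← hs, Algebra.smul_def] at hs'
    exact (Ideal.IsPrime.mem_or_mem ‹_› hs').elim (fun h => ha ((Ideal.over_def Q p).symm ▸ h)) hz
  · rintro ⟨s, hs, hsx⟩
    have h : theta p Q (s * x) = 0 := by
      show algebraMap _ _ ((1 : p.ResidueField) ⊗ₜ[A] (s * x)) = 0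
      rw [one_tmul_eq_zero p hsx, map_zero]
    rw [map_mul] at h
    exact (isUnit_theta p hQ hs).mul_right_eq_zero.1 h

end relative

variable {A C : Type u} [CommRing A] [CommRing C] [Algebra A C]
  [Algebra.IsStandardSmoothOfRelativeDimension 1 A C] (I : Ideal C) [Module.Flat A (C ⧸ I)]

/-- Around a point of `V(I)`, a finitely generated ideal with flat, quasi-finite quotient is generated by
one nonzerodivisor. -/
theorem exists_span_singleton [Algebra.QuasiFinite A (C ⧸ I)] (hI : I.FG) (q : Ideal C) [q.IsPrime]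
    (hq : I ≤ q) :
    ∃ f ∉ q, ∀ (L : Type u) [CommRing L] [Algebra C L] [IsLocalization.Away f L],
      ∃ h, h ∈ L⁰ ∧ I.map (algebraMap C L) = Ideal.span {h} := by
  classical
  haveI : Algebra.IsStandardSmooth A C := Algebra.IsStandardSmoothOfRelativeDimension.isStandardSmooth 1
  let p : Ideal A := q.comap (algebraMap A C)
  obtain ⟨Q, hQ⟩ : ∃ Q : PrimeSpectrum (p.Fiber C),
      Q.asIdeal.comap (Algebra.TensorProduct.includeRight : C →ₐ[A] p.Fiber C).toRingHom = q := by
    refine ⟨PrimeSpectrum.primesOverOrderIsoFiber A C p ⟨q, inferInstance, ⟨rfl⟩⟩, ?_⟩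
    exact congrArg Subtype.val
      ((PrimeSpectrum.primesOverOrderIsoFiber A C p).symm_apply_apply ⟨q, inferInstance, ⟨rfl⟩⟩)
  let D := Localization.AtPrime Q.asIdeal
  let θ : C →+* D := theta p Q.asIdeal
  haveI : Algebra.IsStandardSmoothOfRelativeDimension 1 p.ResidueField (p.Fiber C) :=
    Algebra.IsStandardSmoothOfRelativeDimension.baseChange 1 p.ResidueField
  obtain ⟨hdom, hpid⟩ := isPID_localization (k := p.ResidueField) Q.asIdeal
  haveI : IsDomain D := hdom
  haveI : IsPrincipalIdealRing D := hpid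
  have hI0 : Ideal.span (θ '' (I : Set C)) ≠ ⊥ := by
    intro h0
    rw [Ideal.span_eq_bot] at h0
    have hI' : ∀ x ∈ I, θ x = 0 := fun x hx => h0 _ ⟨x, hx, rfl⟩
    obtain ⟨g, hg⟩ := Algebra.IsStandardSmoothOfRelativeDimension.exists_etale_mvPolynomial 1
      p.ResidueField (p.Fiber C)
    let lC : C →ₐ[A] D := (IsScalarTower.toAlgHom A (p.Fiber C) D).comp Algebra.TensorProduct.includeRight
    let l : C ⧸ I →ₐ[A] D := Ideal.Quotient.liftₐ I lC hI'
    let φ : p.Fiber (C ⧸ I) →ₐ[p.ResidueField] D :=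
      Algebra.TensorProduct.lift (Algebra.ofId p.ResidueField D) l fun _ _ => .all _ _
    haveI : Module.Finite p.ResidueField (p.Fiber (C ⧸ I)) := Algebra.QuasiFinite.finite_fiber p
    haveI : Algebra.IsIntegral p.ResidueField (p.Fiber (C ⧸ I)) := Algebra.IsIntegral.of_finite _ _
    let ι : p.Fiber C →ₐ[p.ResidueField] D := IsScalarTower.toAlgHom _ _ _
    have hfac : ι = φ.comp (Algebra.TensorProduct.map (AlgHom.id _ _) (Ideal.Quotient.mkₐ A I)) := by
      ext c
      simp [ι, φ, l, lC]
    have hint : IsIntegral p.ResidueField (ι (g (MvPolynomial.X 0))) := by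
      rw [hfac]
      exact (Algebra.IsIntegral.isIntegral _).map φ
    have hinj : Function.Injective (ι.comp g) := by
      rw [injective_iff_map_eq_zero]
      intro a ha
      obtain ⟨⟨z, hz⟩, hza⟩ := (IsLocalization.map_eq_zero_iff Q.asIdeal.primeCompl _ _).1 ha
      by_contra hne
      letI := g.toRingHom.toAlgebra
      haveI : Algebra.Etale (MvPolynomial (Fin 1) p.ResidueField) (p.Fiber C) := hg
      haveI : Module.Flat (MvPolynomial (Fin 1) p.ResidueField) (p.Fiber C) := Algebra.Smooth.flat _ _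
      have hreg : IsSMulRegular (p.Fiber C) (algebraMap _ (p.Fiber C) a) :=
        IsSMulRegular.of_flat (IsLeftRegular.isSMulRegular fun x y hxy => mul_left_cancel₀ hne hxy)
      have hz0 : z = 0 := hreg (by
        show algebraMap _ (p.Fiber C) a • z = algebraMap _ (p.Fiber C) a • (0 : p.Fiber C)
        rw [smul_zero, smul_eq_mul, mul_comm]
        exact hza)
      exact hz (hz0 ▸ Q.asIdeal.zero_mem)
    exact MvPolynomial.transcendental_X p.ResidueField (0 : Fin 1)
      ((isIntegral_algHom_iff (ι.comp g) hinj).1 hint).isAlgebraic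
  obtain ⟨_, ⟨h, hhI, rfl⟩, hspan⟩ := exists_mem_span_eq (D := D) hI0
  have hh0 : θ h ≠ 0 := fun h1 => hI0 (by rw [hspan, h1]; simp)
  have hhq : h ∈ q := hq hhI
  -- Nakayama in the local ring
  let Cq := Localization.AtPrime q
  have hIq : I.map (algebraMap C Cq) ≤ Ideal.span {algebraMap C Cq h} := by
    refine Submodule.le_of_le_smul_of_le_jacobson_bot (hI.map _)
      (le_of_eq (IsLocalRing.jacobson_eq_maximalIdeal ⊥ bot_ne_top).symm) ?_
    rw [Ideal.map_le_iff_le_comap]
    intro x hx
    obtain ⟨d, hd⟩ := Ideal.mem_span_singleton'.1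
      (hspan ▸ Ideal.subset_span ⟨x, hx, rfl⟩ : θ x ∈ Ideal.span {θ h})
    obtain ⟨c, t, ht, hct⟩ := exists_eq_theta_div p hQ d
    have h0 : θ (t * x - c * h) = 0 := by
      rw [map_sub, map_mul, map_mul, ← hd, show θ c = d * θ t from hct.symm]; ring
    obtain ⟨s, hs, hsp⟩ := (theta_eq_zero_iff p hQ).1 h0
    have hmem := mem_map_mul_of_flat I p (Ideal.mul_mem_left _ s
      (sub_mem (Ideal.mul_mem_left _ t hx) (Ideal.mul_mem_left _ c hhI))) hsp
    have hmap := Ideal.mem_map_of_mem (algebraMap C Cq) hmem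
    rw [Ideal.map_mul] at hmap
    have hle : (p.map (algebraMap A C)).map (algebraMap C Cq) ≤ IsLocalRing.maximalIdeal Cq := by
      rw [← Localization.AtPrime.map_eq_maximalIdeal]
      exact Ideal.map_mono Ideal.map_comap_le
    have hu : IsUnit (algebraMap C Cq (s * t)) :=
      IsLocalization.map_units Cq (⟨_, fun hh => (Ideal.IsPrime.mem_or_mem ‹_› hh).elim hs ht⟩ : q.primeCompl)
    rw [Ideal.mem_comap]
    refine (Ideal.unit_mul_mem_iff_mem _ hu).1 ?_
    have e : algebraMap C Cq (s * t) * algebraMap C Cq x =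
        algebraMap C Cq (s * c) * algebraMap C Cq h + algebraMap C Cq (s * (t * x - c * h)) := by
      simp only [map_mul, map_sub]; ring
    rw [e]
    exact Submodule.add_mem_sup (Ideal.mul_mem_left _ _ (Ideal.mem_span_singleton_self _))
      (Ideal.mul_mono_left hle hmap)
  have hgen : ∀ x ∈ I, ∃ s ∉ q, s * x ∈ Ideal.span {h} := by
    intro x hx
    have h1 : algebraMap C Cq x ∈ (Ideal.span {h}).map (algebraMap C Cq) := by
      rw [Ideal.map_span, Set.image_singleton]
      exact hIq (Ideal.mem_map_of_mem _ hx)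
    obtain ⟨s, hs, hsx⟩ := (IsLocalization.algebraMap_mem_map_algebraMap_iff q.primeCompl Cq _ _).1 h1
    exact ⟨s, hs, hsx⟩
  obtain ⟨gens, hgens⟩ := hI
  have hgensI : ∀ x ∈ gens, x ∈ I := fun x hx => hgens ▸ Ideal.subset_span hx
  choose s hs hsx using fun x : gens => hgen x.1 (hgensI x.1 x.2)
  -- slicing
  haveI : Module.Flat A C := Algebra.Smooth.flat A C
  haveI : Module.Flat A (LocalizedModule q.primeCompl C) := Module.Flat.trans A C _
  obtain ⟨f₂, hf₂, hf₂'⟩ := FlatH4.exists_slice q h hhq fun c t ht hthc => by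
    refine (theta_eq_zero_iff p hQ).1 ?_
    have h1 : θ (h * c) = 0 := (theta_eq_zero_iff p hQ).2 ⟨t, ht, by rwa [← mul_assoc]⟩
    rw [map_mul] at h1
    exact (mul_eq_zero.1 h1).resolve_left hh0
  have hnzd := (hf₂' (Localization.Away f₂)).1
  refine ⟨f₂ * ∏ x, s x, fun hmem => ?_, fun L _ _ _ => ?_⟩
  · refine (Ideal.IsPrime.mem_or_mem ‹_› hmem).elim hf₂ fun h1 => ?_
    obtain ⟨x, -, hx⟩ := (Ideal.IsPrime.prod_mem_iff).1 h1
    exact hs x hx
  have huL : IsUnit (algebraMap C L (f₂ * ∏ x, s x)) :=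
    IsLocalization.Away.algebraMap_isUnit _
  rw [map_mul, IsUnit.mul_iff] at huL
  refine ⟨algebraMap C L h, mem_nonZeroDivisors_iff_right.2 fun y hy => ?_, le_antisymm ?_ ?_⟩
  · obtain ⟨⟨c, m⟩, hcm⟩ := IsLocalization.surj (Submonoid.powers (f₂ * ∏ x, s x)) y
    have h1 : algebraMap C L (c * h) = 0 := by rw [map_mul, ← hcm, mul_right_comm, hy, zero_mul]
    obtain ⟨⟨M, hM⟩, hMc⟩ := (IsLocalization.map_eq_zero_iff (Submonoid.powers (f₂ * ∏ x, s x)) _ _).1 h1
    have h2 : algebraMap C (Localization.Away f₂) (M * c) = 0 := by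
      refine (mem_nonZeroDivisors_iff_right.1 hnzd) _ ?_
      rw [← map_mul, mul_assoc, show M * (c * h) = 0 from hMc, map_zero]
    obtain ⟨⟨N, k, rfl⟩, hN⟩ := (IsLocalization.map_eq_zero_iff (Submonoid.powers f₂) _ _).1 h2
    have h3 : algebraMap C L c = 0 := by
      have h4 := congrArg (algebraMap C L) hN
      rw [map_mul, map_mul, map_pow, map_zero, (huL.1.pow k).mul_right_eq_zero] at h4
      exact (IsLocalization.map_units L (⟨M, hM⟩ : Submonoid.powers (f₂ * ∏ x, s x))).mul_right_eq_zero.1 h4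
    rw [h3] at hcm
    exact (IsLocalization.map_units L m).mul_left_eq_zero.1 hcm
  · rw [← hgens, Ideal.map_span, Ideal.span_le]
    rintro _ ⟨x, hx, rfl⟩
    obtain ⟨d, hd⟩ := Ideal.mem_span_singleton'.1 (hsx ⟨x, hx⟩)
    have hu : IsUnit (algebraMap C L (s ⟨x, hx⟩)) :=
      isUnit_of_dvd_unit (map_dvd _ (Finset.dvd_prod_of_mem s (Finset.mem_univ _))) huL.2
    refine (Ideal.unit_mul_mem_iff_mem _ hu).1 ?_
    rw [← map_mul, ← hd, map_mul]
    exact Ideal.mul_mem_left _ _ (Ideal.mem_span_singleton_self _)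
  · rw [Ideal.span_singleton_le_iff_mem]
    exact Ideal.mem_map_of_mem _ hhI

/-- Conversely, a flat quotient by a nonzerodivisor is quasi-finite. -/
theorem quasiFinite_of_span_singleton {h : C} (hh : h ∈ C⁰) (hIh : I = Ideal.span {h}) :
    Algebra.QuasiFinite A (C ⧸ I) := by
  haveI : Algebra.IsStandardSmooth A C := Algebra.IsStandardSmoothOfRelativeDimension.isStandardSmooth 1
  refine Algebra.QuasiFinite.mk fun p _ => ?_
  haveI : Algebra.IsStandardSmoothOfRelativeDimension 1 p.ResidueField (p.Fiber C) :=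
    Algebra.IsStandardSmoothOfRelativeDimension.baseChange 1 p.ResidueField
  let π : p.Fiber C →ₐ[p.ResidueField] p.Fiber (C ⧸ I) :=
    Algebra.TensorProduct.map (AlgHom.id _ _) (Ideal.Quotient.mkₐ A I)
  have hπ : Function.Surjective π :=
    Algebra.TensorProduct.map_surjective _ _ Function.surjective_id Ideal.Quotient.mk_surjective
  let hb : p.Fiber C := (1 : p.ResidueField) ⊗ₜ[A] h
  have hreg : ∀ z : p.Fiber C, hb * z = 0 → z = 0 := by
    intro z hz
    obtain ⟨a, ha, c, hc⟩ := Ideal.Fiber.exists_smul_eq_one_tmul p z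
    have h1 : (1 : p.ResidueField) ⊗ₜ[A] (h * c) = 0 := by
      have : hb * ((1 : p.ResidueField) ⊗ₜ[A] c : p.Fiber C) = 0 := by
        rw [← hc, mul_smul_comm, hz, smul_zero]
      rwa [Algebra.TensorProduct.tmul_mul_tmul, one_mul] at this
    obtain ⟨b, hb', hbc⟩ := FlatH4.exists_smul_mem_of_one_tmul_eq_zero p h1
    have hm := mem_map_mul_of_flat I p (y := b • (h * c))
      (by rw [hIh, Algebra.smul_def, mul_left_comm]
          exact Ideal.mul_mem_right _ _ (Ideal.mem_span_singleton_self h)) hbc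
    rw [hIh, Ideal.mem_mul_span_singleton] at hm
    obtain ⟨e, he, heq⟩ := hm
    rw [Algebra.smul_def, mul_left_comm, mul_comm e h] at heq
    have h2 := (mul_cancel_left_mem_nonZeroDivisors hh).1 heq
    have h3 : b • ((1 : p.ResidueField) ⊗ₜ[A] c : p.Fiber C) = 0 := by
      rw [← tmul_smul, Algebra.smul_def, ← h2, one_tmul_eq_zero p he]
    rw [← hc, ← mul_smul, ← IsScalarTower.algebraMap_smul p.ResidueField, smul_eq_zero] at h3
    exact h3.resolve_left (by
      rw [Ideal.algebraMap_residueField_eq_zero]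
      exact fun hm => (Ideal.IsPrime.mem_or_mem ‹_› hm).elim hb' ha)
  haveI : Algebra.IsStandardSmooth p.ResidueField (p.Fiber C) :=
    Algebra.IsStandardSmoothOfRelativeDimension.isStandardSmooth 1
  haveI : IsNoetherianRing (p.Fiber C) := Algebra.FiniteType.isNoetherianRing p.ResidueField _
  haveI : IsNoetherianRing (p.Fiber (C ⧸ I)) :=
    isNoetherianRing_of_surjective _ _ π.toRingHom hπ
  haveI : Algebra.FiniteType p.ResidueField (p.Fiber (C ⧸ I)) :=
    Algebra.FiniteType.of_surjective π hπ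
  haveI : Ring.KrullDimLE 0 (p.Fiber (C ⧸ I)) := by
    rw [Ring.krullDimLE_zero_iff]
    intro P hP
    let Q : Ideal (p.Fiber C) := P.comap π.toRingHom
    haveI : Q.IsPrime := Ideal.IsPrime.comap _
    have hbQ : hb ∈ Q := by
      show π hb ∈ P
      have : π hb = 0 := by
        show (1 : p.ResidueField) ⊗ₜ[A] Ideal.Quotient.mk I h = 0
        rw [Ideal.Quotient.eq_zero_iff_mem.2 (hIh ▸ Ideal.mem_span_singleton_self h), tmul_zero]
      rw [this]; exact P.zero_mem
    suffices hQ : Q.IsMaximal by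
      rw [← Ideal.map_comap_of_surjective π.toRingHom hπ P]
      refine (Ideal.map_eq_top_or_isMaximal_of_surjective π.toRingHom hπ hQ).resolve_left fun htop => ?_
      rw [Ideal.map_comap_of_surjective π.toRingHom hπ P] at htop
      exact hP.ne_top htop
    obtain ⟨M, hM, hQM⟩ := Ideal.exists_le_maximal Q (Ideal.IsPrime.ne_top inferInstance)
    suffices Q = M by rw [this]; exact hM
    obtain ⟨hdom, hpid⟩ := isPID_localization (k := p.ResidueField) M
    have hdis : Disjoint (M.primeCompl : Set (p.Fiber C)) (Q : Set (p.Fiber C)) :=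
      Set.disjoint_left.2 fun x hx hxQ => hx (hQM hxQ)
    let QD : Ideal (Localization.AtPrime M) := Q.map (algebraMap _ _)
    haveI : QD.IsPrime := IsLocalization.isPrime_of_isPrime_disjoint M.primeCompl _ Q inferInstance hdis
    have hne : QD ≠ ⊥ := fun h0 => by
      have h1 : algebraMap _ (Localization.AtPrime M) hb = 0 := by
        rw [← Ideal.mem_bot, ← h0]; exact Ideal.mem_map_of_mem _ hbQ
      obtain ⟨⟨z, hz⟩, hz0⟩ := (IsLocalization.map_eq_zero_iff M.primeCompl _ _).1 h1
      exact hz (hreg z (by rwa [mul_comm]) ▸ M.zero_mem)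
    have hQD : QD = IsLocalRing.maximalIdeal _ :=
      IsLocalRing.eq_maximalIdeal (Ideal.IsPrime.isMaximal (R := Localization.AtPrime M) inferInstance hne)
    rw [← IsLocalization.comap_map_of_isPrime_disjoint M.primeCompl (Localization.AtPrime M) inferInstance hdis]
    exact (congrArg (Ideal.comap _) hQD).trans Localization.AtPrime.under_maximalIdeal
  haveI : IsArtinianRing (p.Fiber (C ⧸ I)) := IsNoetherianRing.isArtinianRing_of_krullDimLE_zero
  exact (Module.finite_iff_isArtinianRing p.ResidueField (p.Fiber (C ⧸ I))).2 inferInstance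

end Groth.Agent.CurveCartier25
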