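import Groth.Agent.Lib.CurveCartier25.Ring
import Groth.Agent.Lib.FlatSyz.ProjDim
import Mathlib.RingTheory.Artinian.Ring
import Mathlib.RingTheory.Spectrum.Prime.FreeLocus
import Mathlib.LinearAlgebra.TensorProduct.RightExactness
import Mathlib.LinearAlgebra.Isomorphisms
import Mathlib.LinearAlgebra.FiniteDimensional.Basic

/-!
# Additivity of the degree for products of locally principal ideals
-/

set_option autoImplicit false
set_option linter.style.haveILetI false
set_option backward.isDefEq.respectTransparency.types false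

universe u

namespace Groth.Agent.CurveCartier25

open TensorProduct
open scoped nonZeroDivisors

/-- An extension of flat modules is flat. -/
theorem flat_of_extension {A K F M : Type u} [CommRing A] [AddCommGroup K] [Module A K] [AddCommGroup F]
    [Module A F] [AddCommGroup M] [Module A M] [Module.Flat A K] [Module.Flat A M] (i : K →ₗ[A] F)
    (hi : Function.Injective i) (p : F →ₗ[A] M) (hip : Function.Exact i p) (hp : Function.Surjective p) :
    Module.Flat A F := by
  refine Module.Flat.iff_rTensor_injective'.2 fun J => ?_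
  rw [injective_iff_map_eq_zero]
  intro x hx
  have hM : p.lTensor J x = 0 := by
    apply Module.Flat.rTensor_preserves_injective_linearMap (M := M) _ J.injective_subtype
    rw [map_zero, ← LinearMap.comp_apply, LinearMap.rTensor_comp_lTensor, ← LinearMap.lTensor_comp_rTensor,
      LinearMap.comp_apply, hx, map_zero]
  obtain ⟨y, rfl⟩ := (lTensor_exact J hip hp x).1 hM
  have hy : J.subtype.rTensor K y = 0 := by
    apply Module.Flat.lTensor_preserves_injective_linearMap (M := A) i hi
    rw [map_zero, ← LinearMap.comp_apply, LinearMap.lTensor_comp_rTensor, ← LinearMap.rTensor_comp_lTensor,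
      LinearMap.comp_apply, hx]
  rw [(injective_iff_map_eq_zero _).1
    (Module.Flat.rTensor_preserves_injective_linearMap (M := K) _ J.injective_subtype) y hy, map_zero]

/-- The exact sequence `0 → C ⧸ g → C ⧸ gh → C ⧸ h → 0`. -/
theorem exists_ses_quotient {A C : Type u} [CommRing A] [CommRing C] [Algebra A C] {g h : C} (hh : h ∈ C⁰) :
    ∃ (i : (C ⧸ Ideal.span {g}) →ₗ[A] C ⧸ Ideal.span {g * h})
      (p : (C ⧸ Ideal.span {g * h}) →ₗ[A] C ⧸ Ideal.span {h}),
      Function.Injective i ∧ Function.Exact i p ∧ Function.Surjective p := by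
  let i₀ : C →ₗ[C] C ⧸ Ideal.span {g * h} := (Submodule.mkQ _).comp (LinearMap.mulRight C h)
  have hi₀ : Ideal.span {g} ≤ LinearMap.ker i₀ := by
    rw [Ideal.span_singleton_le_iff_mem]
    exact (Ideal.Quotient.eq_zero_iff_mem).2 (Ideal.mem_span_singleton_self _)
  let i : (C ⧸ Ideal.span {g}) →ₗ[C] C ⧸ Ideal.span {g * h} := Submodule.liftQ (Ideal.span {g}) i₀ hi₀
  let p : (C ⧸ Ideal.span {g * h}) →ₗ[C] C ⧸ Ideal.span {h} :=
    Submodule.factor (Ideal.span_singleton_le_span_singleton.2 (Dvd.intro_left g rfl))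
  refine ⟨i.restrictScalars A, p.restrictScalars A, ?_, ?_, ?_⟩
  · show Function.Injective i
    rw [injective_iff_map_eq_zero]
    intro x hx
    obtain ⟨c, rfl⟩ := Submodule.Quotient.mk_surjective _ x
    obtain ⟨d, hd⟩ := Ideal.mem_span_singleton'.1 (Ideal.Quotient.eq_zero_iff_mem.1 hx : c * h ∈ _)
    rw [← mul_assoc] at hd
    exact (Submodule.Quotient.mk_eq_zero _).2
      (Ideal.mem_span_singleton'.2 ⟨d, (mul_cancel_right_mem_nonZeroDivisors hh).1 hd⟩)
  · intro x
    obtain ⟨c, rfl⟩ := Submodule.Quotient.mk_surjective _ x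
    constructor
    · intro hx
      obtain ⟨d, hd⟩ := Ideal.mem_span_singleton'.1 (Ideal.Quotient.eq_zero_iff_mem.1 hx : c ∈ _)
      exact ⟨Submodule.Quotient.mk d, congrArg Submodule.Quotient.mk hd⟩
    · rintro ⟨y, hy⟩
      obtain ⟨d, rfl⟩ := Submodule.Quotient.mk_surjective _ y
      rw [← hy]
      exact Ideal.Quotient.eq_zero_iff_mem.2 (Ideal.mem_span_singleton'.2 ⟨d, rfl⟩)
  · intro x
    obtain ⟨c, rfl⟩ := Submodule.Quotient.mk_surjective _ x
    exact ⟨Submodule.Quotient.mk c, rfl⟩

/-- `C ⧸ (gh)` is an extension of `C ⧸ h` by `C ⧸ g`. -/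
theorem flat_quotient_mul {A C : Type u} [CommRing A] [CommRing C] [Algebra A C] {g h : C} (hh : h ∈ C⁰)
    [Module.Flat A (C ⧸ Ideal.span {g})] [Module.Flat A (C ⧸ Ideal.span {h})] :
    Module.Flat A (C ⧸ Ideal.span {g * h}) :=
  let ⟨i, p, hi, hip, hp⟩ := exists_ses_quotient (A := A) (g := g) hh
  flat_of_extension i hi p hip hp

/-- If `C ⧸ (gh)` and `C ⧸ h` are flat then so is `C ⧸ g`. -/
theorem flat_quotient_left {A C : Type u} [CommRing A] [CommRing C] [Algebra A C] {g h : C} (hh : h ∈ C⁰)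
    [Module.Flat A (C ⧸ Ideal.span {g * h})] [Module.Flat A (C ⧸ Ideal.span {h})] :
    Module.Flat A (C ⧸ Ideal.span {g}) :=
  let ⟨i, p, hi, hip, hp⟩ := exists_ses_quotient (A := A) (g := g) hh
  FlatSyz.flat_of_exact i hi p hip hp

/-- In a ring with finitely many maximal ideals a locally principal ideal is principal, and an
annihilator computed locally is the global one. -/
theorem exists_generator {R : Type u} [CommRing R] (hfin : {m : Ideal R | m.IsMaximal}.Finite) (a b : Ideal R)
    (h0 : ∀ y ∈ b, ∀ z ∈ a, y * z = 0)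
    (h : ∀ m : Ideal R, m.IsMaximal → ∃ x ∈ a, (∀ y ∈ a, ∃ s ∉ m, s * y ∈ Ideal.span {x}) ∧
      ∀ y, y * x = 0 → ∃ s ∉ m, s * y ∈ b) :
    ∃ g ∈ a, a = Ideal.span {g} ∧ ∀ y, y * g = 0 ↔ y ∈ b := by
  classical
  haveI := hfin.fintype
  let ι := {m : Ideal R | m.IsMaximal}
  choose x hxa hx hann using fun m : ι => h m.1 m.2
  have he : ∀ m : ι, ∃ e : R, e ∉ m.1 ∧ ∀ m' : ι, m' ≠ m → e ∈ m'.1 := fun m => by
    have : ¬ (Finset.univ.erase m).inf (fun m' : ι => m'.1) ≤ m.1 := fun hle => by
      obtain ⟨m', hm', hle'⟩ := (Ideal.IsPrime.inf_le' m.2.isPrime).1 hle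
      exact Finset.ne_of_mem_erase hm' (Subtype.ext (m'.2.eq_of_le m.2.ne_top hle'))
    obtain ⟨e, he, hem⟩ := SetLike.not_le_iff_exists.1 this
    exact ⟨e, hem, fun m' hm' => (Finset.inf_le (Finset.mem_erase.2 ⟨hm', Finset.mem_univ _⟩) :
      _ ≤ m'.1) he⟩
  choose e he he' using he
  let g := ∑ m : ι, e m * x m
  have hga : g ∈ a := Ideal.sum_mem _ fun m _ => Ideal.mul_mem_left _ _ (hxa m)
  -- at every maximal ideal `g` is a unit multiple of the local generator
  have key : ∀ m : ι, ∃ u ∉ m.1, ∃ t ∉ m.1, t * g = u * x m := by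
    intro m
    choose s hs hsx using fun m' : ι => hx m (x m') (hxa m')
    choose c hc using fun m' => Ideal.mem_span_singleton'.1 (hsx m')
    let t := ∏ m', s m'
    have ht : t ∉ m.1 := fun hmem => by
      obtain ⟨j, -, hj⟩ := (Ideal.IsPrime.prod_mem_iff (hp := m.2.isPrime)).1 hmem
      exact hs j hj
    let d : ι → R := fun m' => (∏ j ∈ Finset.univ.erase m', s j) * c m'
    have hd : ∀ m', t * x m' = d m' * x m := fun m' => by
      show (∏ j, s j) * x m' = _
      rw [← Finset.mul_prod_erase Finset.univ s (Finset.mem_univ m')]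
      simp only [d]
      linear_combination -(∏ j ∈ Finset.univ.erase m', s j) * hc m'
    refine ⟨t * e m + ∑ m' ∈ Finset.univ.erase m, e m' * d m', fun hmem => ?_, t, ht, ?_⟩
    · have h2 : ∑ m' ∈ Finset.univ.erase m, e m' * d m' ∈ m.1 :=
        Ideal.sum_mem _ fun m' hm' => Ideal.mul_mem_right _ _ (he' m' m (Finset.ne_of_mem_erase hm').symm)
      exact (m.2.isPrime.mem_or_mem ((Submodule.add_mem_iff_left _ h2).1 hmem)).elim ht (he m)
    · simp only [g]
      rw [← Finset.add_sum_erase _ _ (Finset.mem_univ m), mul_add, add_mul, Finset.mul_sum, Finset.sum_mul]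
      congr 1
      · ring
      · exact Finset.sum_congr rfl fun m' _ => by linear_combination (e m') * hd m'
  have span_eq : a = Ideal.span {g} := by
    refine le_antisymm (fun y hy => ?_) ((Ideal.span_singleton_le_iff_mem _).2 hga)
    by_contra hne
    obtain ⟨m, hm, hle⟩ := Ideal.exists_le_maximal ((Ideal.span {g}).colon {y}) (fun htop =>
      hne (by simpa using Submodule.mem_colon_singleton.1 ((Ideal.eq_top_iff_one _).1 htop)))
    obtain ⟨s, hs, hsy⟩ := hx ⟨m, hm⟩ y hy
    obtain ⟨c, hc⟩ := Ideal.mem_span_singleton'.1 hsy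
    obtain ⟨u, hu, t, -, htu⟩ := key ⟨m, hm⟩
    refine (hm.isPrime.mem_or_mem (x := u) (y := s) (hle ?_)).elim hu hs
    rw [Submodule.mem_colon_singleton, smul_eq_mul]
    exact Ideal.mem_span_singleton'.2 ⟨c * t, by linear_combination c * htu + u * hc⟩
  refine ⟨g, hga, span_eq, fun y => ⟨fun hy => ?_, fun hy => h0 y hy g hga⟩⟩
  by_contra hne
  obtain ⟨m, hm, hle⟩ := Ideal.exists_le_maximal (b.colon {y}) (fun htop =>
    hne (by simpa using Submodule.mem_colon_singleton.1 ((Ideal.eq_top_iff_one _).1 htop)))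
  obtain ⟨u, hu, t, -, htu⟩ := key ⟨m, hm⟩
  obtain ⟨s, hs, hsb⟩ := hann ⟨m, hm⟩ (u * y) (by linear_combination (-y) * htu + t * hy)
  refine (hm.isPrime.mem_or_mem (x := s) (y := u) (hle ?_)).elim hs hu
  rw [Submodule.mem_colon_singleton, smul_eq_mul, mul_assoc]
  exact hsb

variable {A R : Type u} [CommRing A] [CommRing R] [Algebra A R]

/-- Local generation on a basic open gives local generation at its primes. -/
theorem local_of_away {a b : Ideal R} (P : Ideal R) [P.IsPrime] {r : R} (hr : r ∉ P) (L : Type u)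
    [CommRing L] [Algebra R L] [IsLocalization.Away r L] (g : L)
    (hg : a.map (algebraMap R L) = Ideal.span {g})
    (hann : ∀ y, y * g = 0 → y ∈ b.map (algebraMap R L)) :
    ∃ x ∈ a, (∀ y ∈ a, ∃ s ∉ P, s * y ∈ Ideal.span {x}) ∧ ∀ y, y * x = 0 → ∃ s ∉ P, s * y ∈ b := by
  have hpow : ∀ m : Submonoid.powers r, (m : R) ∉ P := fun ⟨_, n, hn⟩ h => by
    subst hn; exact hr (Ideal.IsPrime.mem_of_pow_mem ‹_› n h)
  obtain ⟨⟨⟨x, hx⟩, m⟩, hxm⟩ := (IsLocalization.mem_map_algebraMap_iff (.powers r) L).1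
    (hg.symm ▸ Ideal.mem_span_singleton_self g : g ∈ a.map (algebraMap R L))
  have hu := IsLocalization.map_units L m
  refine ⟨x, hx, fun y hy => ?_, fun y hy => ?_⟩
  · have h1 : algebraMap R L y ∈ (Ideal.span {x}).map (algebraMap R L) := by
      rw [Ideal.map_span, Set.image_singleton,
        show algebraMap R L x = g * algebraMap R L m from hxm.symm, Ideal.span_singleton_mul_right_unit hu, ← hg]
      exact Ideal.mem_map_of_mem _ hy
    obtain ⟨s, hs, hsy⟩ := (IsLocalization.algebraMap_mem_map_algebraMap_iff (.powers r) L _ _).1 h1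
    exact ⟨s, hpow ⟨s, hs⟩, hsy⟩
  · have h1 : algebraMap R L y * g = 0 := by
      refine hu.mul_left_eq_zero.1 ?_
      rw [mul_assoc, hxm, ← map_mul, hy, map_zero]
    obtain ⟨s, hs, hsy⟩ := (IsLocalization.algebraMap_mem_map_algebraMap_iff (.powers r) L _ _).1 (hann _ h1)
    exact ⟨s, hpow ⟨s, hs⟩, hsy⟩

/-- The fibre of a quotient. -/
theorem finrank_fiber_quotient (p : Ideal A) [p.IsPrime] (a : Ideal R) :
    Module.finrank p.ResidueField (p.Fiber (R ⧸ a)) = Module.finrank p.ResidueField
      (p.Fiber R ⧸ a.map (Algebra.TensorProduct.includeRight : R →ₐ[A] p.Fiber R).toRingHom) := by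
  let π : p.Fiber R →ₐ[p.ResidueField] p.Fiber (R ⧸ a) :=
    Algebra.TensorProduct.map (AlgHom.id _ _) (Ideal.Quotient.mkₐ A a)
  have hπ : Function.Surjective π :=
    Algebra.TensorProduct.map_surjective _ _ Function.surjective_id Ideal.Quotient.mk_surjective
  have hker : RingHom.ker π = a.map (Algebra.TensorProduct.includeRight : R →ₐ[A] p.Fiber R).toRingHom := by
    have := Algebra.TensorProduct.map_ker (AlgHom.id p.ResidueField p.ResidueField) (Ideal.Quotient.mkₐ A a)
      Function.surjective_id Ideal.Quotient.mk_surjective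
    rw [show RingHom.ker (AlgHom.id p.ResidueField p.ResidueField) = ⊥ from
        (RingHom.injective_iff_ker_eq_bot _).1 Function.injective_id, Ideal.map_bot, bot_sup_eq,
      show RingHom.ker (Ideal.Quotient.mkₐ A a) = a from Ideal.mk_ker] at this
    exact this
  exact (((Ideal.quotientEquivAlgOfEq p.ResidueField hker.symm).trans
    (Ideal.quotientKerAlgEquivOfSurjective hπ)).toLinearEquiv).finrank_eq.symm

/-- Additivity of ranks: `R ⧸ a₁` and `R ⧸ a₂` for `a₁a₂ = 0`, `a₂` locally generated by one element with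
annihilator `a₁`. -/
theorem rankAtStalk_add [Module.Finite A R] [Module.Flat A R] (a₁ a₂ : Ideal R) [Module.Flat A (R ⧸ a₁)]
    [Module.Flat A (R ⧸ a₂)] (h0 : a₁ * a₂ = ⊥)
    (hloc : ∀ P : Ideal R, P.IsPrime → ∃ x ∈ a₂, (∀ y ∈ a₂, ∃ s ∉ P, s * y ∈ Ideal.span {x}) ∧
      ∀ y, y * x = 0 → ∃ s ∉ P, s * y ∈ a₁) (p : PrimeSpectrum A) :
    Module.rankAtStalk (R := A) R p =
      Module.rankAtStalk (R := A) (R ⧸ a₁) p + Module.rankAtStalk (R := A) (R ⧸ a₂) p := by
  haveI : Module.Finite A (R ⧸ a₁) := Module.Finite.of_surjective (Ideal.Quotient.mkₐ A a₁).toLinearMap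
    Ideal.Quotient.mk_surjective
  haveI : Module.Finite A (R ⧸ a₂) := Module.Finite.of_surjective (Ideal.Quotient.mkₐ A a₂).toLinearMap
    Ideal.Quotient.mk_surjective
  simp only [Module.rankAtStalk_eq]
  let k := p.asIdeal.ResidueField
  let F := p.asIdeal.Fiber R
  let inc : R →+* F := (Algebra.TensorProduct.includeRight : R →ₐ[A] F).toRingHom
  rw [finrank_fiber_quotient, finrank_fiber_quotient]
  haveI : IsArtinianRing F := IsArtinianRing.of_finite k F
  let b₁ : Ideal F := a₁.map inc
  let b₂ : Ideal F := a₂.map inc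
  have h0' : ∀ y ∈ b₁, ∀ z ∈ b₂, y * z = 0 := fun y hy z hz => by
    rw [← Ideal.mem_bot]
    have := Ideal.mul_mem_mul hy hz
    rwa [← Ideal.map_mul, h0, Ideal.map_bot] at this
  obtain ⟨g, hg, hspan, hann⟩ := exists_generator (R := F)
    (IsArtinianRing.setOf_isMaximal_finite F) b₂ b₁ h0' fun m hm => by
    let P : Ideal R := m.comap inc
    haveI : P.IsPrime := Ideal.IsPrime.comap _
    obtain ⟨x, hx, hgen, hann⟩ := hloc P inferInstance
    refine ⟨inc x, Ideal.mem_map_of_mem _ hx, fun y hy => ?_, fun y hy => ?_⟩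
    · induction hy using Submodule.span_induction with
      | mem y hy =>
        obtain ⟨y, hy, rfl⟩ := hy
        obtain ⟨s, hs, hsy⟩ := hgen y hy
        refine ⟨inc s, hs, ?_⟩
        obtain ⟨d, hd⟩ := Ideal.mem_span_singleton'.1 hsy
        exact Ideal.mem_span_singleton'.2 ⟨inc d, by rw [← map_mul, ← map_mul, hd]⟩
      | zero => exact ⟨1, fun h => hm.ne_top (m.eq_top_iff_one.2 h), by simp⟩
      | add y z _ _ hy hz =>
        obtain ⟨s, hs, hsy⟩ := hy
        obtain ⟨t, ht, htz⟩ := hz
        refine ⟨s * t, fun h => (hm.isPrime.mem_or_mem h).elim hs ht, ?_⟩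
        rw [mul_add, mul_assoc s t z, mul_comm s t, mul_assoc t s y]
        exact add_mem (Ideal.mul_mem_left _ _ hsy) (Ideal.mul_mem_left _ _ htz)
      | smul c y _ hy =>
        obtain ⟨s, hs, hsy⟩ := hy
        exact ⟨s, hs, by rw [smul_eq_mul, mul_left_comm]; exact Ideal.mul_mem_left _ _ hsy⟩
    · obtain ⟨a, ha, c, hc⟩ := Ideal.Fiber.exists_smul_eq_one_tmul p.asIdeal y
      have hca : inc (c * x) = 0 := by
        rw [map_mul, show inc c = a • y from hc.symm, smul_mul_assoc, hy, smul_zero]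
      obtain ⟨b, hb, hbc⟩ := FlatH4.exists_smul_mem_of_one_tmul_eq_zero p.asIdeal hca
      have hm' := mem_map_mul_of_flat a₂ p.asIdeal (y := b • (c * x))
        (by rw [Algebra.smul_def]; exact Ideal.mul_mem_left _ _ (Ideal.mul_mem_left _ _ hx)) hbc
      generalize hw : b • (c * x) = w at hm'
      have hloc' : ∀ y ∈ a₂, ∃ s ∉ P, ∃ d, s * y = d * x := fun y hy => by
        obtain ⟨s, hs, hsy⟩ := hgen y hy
        obtain ⟨d, hd⟩ := Ideal.mem_span_singleton'.1 hsy
        exact ⟨s, hs, d, hd.symm⟩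
      obtain ⟨s, hs, e, he, hse⟩ : ∃ s ∉ P, ∃ e ∈ p.asIdeal.map (algebraMap A R),
          s * w = e * x := by
        clear hbc hw
        induction hm' using Submodule.mul_induction_on' with
        | mem_mul_mem u hu v hv =>
          obtain ⟨s, hs, d, hd⟩ := hloc' v hv
          exact ⟨s, hs, u * d, Ideal.mul_mem_right _ _ hu, by linear_combination u * hd⟩
        | add u hu v hv ihu ihv =>
          obtain ⟨s, hs, d, hd, h1⟩ := ihu
          obtain ⟨t, ht, d', hd', h2⟩ := ihv
          exact ⟨s * t, fun h => (Ideal.IsPrime.mem_or_mem ‹_› h).elim hs ht, t * d + s * d',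
            add_mem (Ideal.mul_mem_left _ _ hd) (Ideal.mul_mem_left _ _ hd'),
            by linear_combination t * h1 + s * h2⟩
      have hz : (algebraMap A R b * s * c - e) * x = 0 := by
        rw [← hw, Algebra.smul_def] at hse
        linear_combination hse
      obtain ⟨t, ht, htb⟩ := hann _ hz
      have hs' : inc (t * (algebraMap A R b * s)) * (a • (1 : F)) ∉ m := by
        have hau : IsUnit (a • (1 : F)) := by
          rw [← IsScalarTower.algebraMap_smul k, ← Algebra.algebraMap_eq_smul_one]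
          exact (Ne.isUnit (mt Ideal.algebraMap_residueField_eq_zero.1 ha)).map _
        rw [Ideal.mul_unit_mem_iff_mem _ hau, map_mul, map_mul]
        intro h
        refine (hm.isPrime.mem_or_mem h).elim ht fun h => (hm.isPrime.mem_or_mem h).elim ?_ hs
        have hbu : IsUnit (inc (algebraMap A R b)) := by
          show IsUnit ((Algebra.TensorProduct.includeRight : R →ₐ[A] F) (algebraMap A R b))
          rw [AlgHom.commutes, IsScalarTower.algebraMap_apply A k F]
          exact (Ne.isUnit (mt Ideal.algebraMap_residueField_eq_zero.1 hb)).map _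
        exact fun h => hm.ne_top (Ideal.eq_top_of_isUnit_mem _ h hbu)
      refine ⟨_, hs', ?_⟩
      have h2 : inc (t * (algebraMap A R b * s * c - e)) ∈ b₁ := Ideal.mem_map_of_mem _ htb
      have h3 : inc e = 0 := one_tmul_eq_zero p.asIdeal he
      rw [map_mul, map_sub, h3, sub_zero, map_mul _ _ c] at h2
      convert h2 using 1
      rw [show inc c = a • y from hc.symm, map_mul inc t]
      simp only [smul_mul_assoc, mul_smul_comm, one_mul, mul_one, mul_assoc]
  -- multiplication by `g`
  let μ : F →ₗ[k] F := (LinearMap.mulRight F g).restrictScalars k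
  have hker : LinearMap.ker μ = b₁.restrictScalars k := SetLike.ext fun y => hann y
  have hran : LinearMap.range μ = b₂.restrictScalars k := SetLike.ext fun y => by
    show _ ↔ y ∈ b₂
    rw [hspan, LinearMap.mem_range, Ideal.mem_span_singleton']
    rfl
  have h1 := μ.finrank_range_add_finrank_ker
  have h2 := Submodule.finrank_quotient_add_finrank (b₁.restrictScalars k)
  have h3 := Submodule.finrank_quotient_add_finrank (b₂.restrictScalars k)
  rw [hker, hran] at h1
  have e : ∀ b : Ideal F, Module.finrank k (F ⧸ b.restrictScalars k) = Module.finrank k (F ⧸ b) := fun b =>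
    (Submodule.Quotient.restrictScalarsEquiv k b).finrank_eq
  rw [e] at h2 h3
  show Module.finrank k F = Module.finrank k (F ⧸ b₁) + Module.finrank k (F ⧸ b₂)
  omega

end Groth.Agent.CurveCartier25
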