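import Groth.Agent.Lib.CurveCartier25.Sum
import Groth.Agent.Lib.HilbBC25.Basic

/-!
# The map adding a point to a relative divisor
-/

set_option autoImplicit false
set_option linter.style.haveILetI false
set_option backward.isDefEq.respectTransparency.types false

universe u

open CategoryTheory CategoryTheory.Limits AlgebraicGeometry

namespace Groth.Agent.CurveCartier25

/-- The image of a section of a separated smooth curve is a divisor of degree one. -/
theorem isFinLocFreeOfDeg_one_section {Y T : Scheme.{u}} (p : Y ⟶ T) [IsSeparated p] (σ : T ⟶ Y)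
    (hσ : σ ≫ p = 𝟙 T) : Mor2.IsFinLocFreeOfDeg 1 (σ.ker.subschemeι ≫ p) := by
  haveI : IsClosedImmersion σ := by
    haveI : IsClosedImmersion (σ ≫ p) := by rw [hσ]; infer_instance
    exact IsClosedImmersion.of_comp σ p
  haveI : IsIso (σ.ker.subschemeι ≫ p) := by
    have h : σ.toImage ≫ σ.ker.subschemeι ≫ p = 𝟙 T := by
      rw [← Category.assoc]
      exact (congrArg (· ≫ p) σ.toImage_imageι).trans hσ
    haveI : IsIso (σ.toImage ≫ σ.ker.subschemeι ≫ p) := by rw [h]; infer_instance
    exact IsIso.of_isIso_comp_left σ.toImage _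
  exact ⟨⟨inferInstance, inferInstance, inferInstance⟩, fun y => by
    rw [Scheme.Hom.finrank_eq_one_of_isIso]; rfl⟩

/-- A closed subscheme contains the image of `s` iff `I.comap s = ⊥`. -/
theorem le_ker_iff {Y T : Scheme.{u}} (s : T ⟶ Y) (I : Y.IdealSheafData) : I ≤ s.ker ↔ I.comap s = ⊥ := by
  rw [← le_bot_iff, ← Scheme.IdealSheafData.le_map_iff_comap_le, Scheme.IdealSheafData.map_bot]

variable {X S : Scheme.{u}} (f : X ⟶ S)

theorem pull_mul {T T' : Over S} (g : T' ⟶ T) (I J : (PicF.XT f T).IdealSheafData) :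
    HilbD.pull f g (I * J) = HilbD.pull f g I * HilbD.pull f g J := by
  simp only [HilbBC25.pull_eq_comap, EffCartier.comap_mul]

theorem secGraph_congr {T : Over S} {x y : T.left ⟶ X} (hx : x ≫ f = T.hom) (hy : y ≫ f = T.hom)
    (h : x = y) : HilbD.secGraph f T x hx = HilbD.secGraph f T y hy := by
  subst h; rfl

variable [IsSeparated f]

instance isSeparated_XTproj (T : Over S) : IsSeparated (PicF.XTproj f T) :=
  MorphismProperty.pullback_snd f T.hom inferInstance

theorem isClosedImmersion_graph (T : Over S) (x : T.left ⟶ X) (hx : x ≫ f = T.hom) :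
    IsClosedImmersion (pullback.lift x (𝟙 T.left) (by simpa using hx) : T.left ⟶ PicF.XT f T) := by
  let σ : T.left ⟶ PicF.XT f T := pullback.lift x (𝟙 T.left) (by simpa using hx)
  have hσ : σ ≫ PicF.XTproj f T = 𝟙 _ := pullback.lift_snd _ _ _
  haveI : IsClosedImmersion (σ ≫ PicF.XTproj f T) := by rw [hσ]; infer_instance
  exact IsClosedImmersion.of_comp σ (PicF.XTproj f T)

theorem pull_secGraph {T T' : Over S} (g : T' ⟶ T) (x : T.left ⟶ X) (hx : x ≫ f = T.hom) :
    HilbD.pull f g (HilbD.secGraph f T x hx) =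
      HilbD.secGraph f T' (g.left ≫ x) (by rw [Category.assoc, hx, Over.w]) := by
  let σ : T.left ⟶ PicF.XT f T := pullback.lift x (𝟙 T.left) (by simpa using hx)
  let σ' : T'.left ⟶ PicF.XT f T' := pullback.lift (g.left ≫ x) (𝟙 T'.left) (by simp [hx, Over.w g])
  haveI : IsClosedImmersion σ := isClosedImmersion_graph f T x hx
  show HilbD.pull f g σ.ker = σ'.ker
  have hσ : σ ≫ PicF.XTproj f T = 𝟙 _ := pullback.lift_snd _ _ _
  have hσ' : σ' ≫ PicF.XTproj f T' = 𝟙 _ := pullback.lift_snd _ _ _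
  have comm : g.left ≫ σ = σ' ≫ PicF.XTmap f g := by
    apply pullback.hom_ext
    · rw [Category.assoc, Category.assoc, pullback.lift_fst, HilbBC25.XTmap_fst, pullback.lift_fst]
    · rw [Category.assoc, Category.assoc, HilbBC25.XTmap_snd, ← Category.assoc σ', hσ',
        show σ ≫ pullback.snd f T.hom = 𝟙 _ from hσ, Category.comp_id, Category.id_comp]
  have sq : IsPullback g.left σ' σ (PicF.XTmap f g) := by
    refine IsPullback.of_bot ?_ comm (HilbBC25.isPullback_XTmap f g)
    rw [hσ, hσ']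
    exact IsPullback.of_vert_isIso ⟨by simp⟩
  rw [HilbBC25.pull_eq_comap, ← Scheme.IdealSheafData.ker_fst_of_isClosedImmersion,
    ← sq.flip.isoPullback_hom_fst, Scheme.Hom.ker_comp_of_isIso]

variable [SmoothOfRelativeDimension 1 f]

theorem smooth_XTproj (T : Over S) : SmoothOfRelativeDimension 1 (PicF.XTproj f T) :=
  haveI := smoothOfRelativeDimension_isStableUnderBaseChange 1
  MorphismProperty.pullback_snd (P := @SmoothOfRelativeDimension 1) f T.hom inferInstance

/-- Adding a point is finite locally free of degree `d + 1`. -/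
theorem isFinLocFreeOfDeg_addPoint
    (d : ℕ) (H : Over S) (Z : HilbD.Obj f d H) (hZ : HilbD.IsUniversal f d H Z)
    (H' : Over S) (Z' : HilbD.Obj f (d + 1) H') (hZ' : HilbD.IsUniversal f (d + 1) H' Z')
    (m : Over.mk (pullback.fst H.hom f ≫ H.hom) ⟶ H')
    (hm : HilbD.pull f m Z'.1 =
      HilbD.pull f (Over.homMk (pullback.fst H.hom f) rfl : Over.mk (pullback.fst H.hom f ≫ H.hom) ⟶ H) Z.1 *
        HilbD.secGraph f (Over.mk (pullback.fst H.hom f ≫ H.hom)) (pullback.snd H.hom f) pullback.condition.symm) :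
    Mor2.IsFinLocFreeOfDeg (d + 1) m.left := by
  let T : Over S := Over.mk (pullback.fst H.hom f ≫ H.hom)
  let π : T ⟶ H := Over.homMk (pullback.fst H.hom f) rfl
  let xT : T.left ⟶ X := pullback.snd H.hom f
  have hxT : xT ≫ f = T.hom := pullback.condition.symm
  have hm' : HilbD.pull f m Z'.1 = HilbD.pull f π Z.1 * HilbD.secGraph f T xT hxT := hm
  let ι' := Z'.1.subschemeι
  let q' := ι' ≫ PicF.XTproj f H'
  -- the point of the universal divisor
  let σT : T.left ⟶ PicF.XT f T := pullback.lift xT (𝟙 T.left) (by simpa using hxT)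
  have hσT : (HilbD.pull f m Z'.1).comap σT = ⊥ := by
    rw [← le_ker_iff, hm']
    exact mul_le_right _ _
  have hlift : ι'.ker ≤ (σT ≫ PicF.XTmap f m).ker := by
    rw [Scheme.IdealSheafData.ker_subschemeι, le_ker_iff, Scheme.IdealSheafData.comap_comp,
      ← HilbBC25.pull_eq_comap, hσT]
  let φ : T.left ⟶ Z'.1.subscheme := IsClosedImmersion.lift ι' (σT ≫ PicF.XTmap f m) hlift
  have hφ : φ ≫ ι' = σT ≫ PicF.XTmap f m := IsClosedImmersion.lift_fac _ _ _
  -- the residual divisor over the universal divisor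
  let T' : Over S := Over.mk (q' ≫ H'.hom)
  let g : T' ⟶ H' := Over.homMk q' rfl
  let x' : T'.left ⟶ X := ι' ≫ pullback.fst f H'.hom
  have hx' : x' ≫ f = T'.hom := by
    show (ι' ≫ pullback.fst f H'.hom) ≫ f = q' ≫ H'.hom
    simp only [q', Category.assoc, pullback.condition]
  let σ' : T'.left ⟶ PicF.XT f T' := pullback.lift x' (𝟙 T'.left) (by simpa using hx')
  have hσ' : σ' ≫ PicF.XTmap f g = ι' := by
    apply pullback.hom_ext
    · rw [Category.assoc, HilbBC25.XTmap_fst, pullback.lift_fst]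
    · rw [Category.assoc, HilbBC25.XTmap_snd, ← Category.assoc, pullback.lift_snd, Category.id_comp]
      rfl
  have hle : HilbD.pull f g Z'.1 ≤ HilbD.secGraph f T' x' hx' := by
    show _ ≤ σ'.ker
    rw [le_ker_iff, HilbBC25.pull_eq_comap, ← Scheme.IdealSheafData.comap_comp, hσ', comap_self]
  haveI := smooth_XTproj f T'
  haveI := smooth_XTproj f T
  obtain ⟨R, hR, hWR⟩ := isFinLocFreeOfDeg_colon (PicF.XTproj f T') _ _ hle 1 (d + 1)
    (isFinLocFreeOfDeg_one_section (PicF.XTproj f T') σ' (pullback.lift_snd _ _ _))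
    (HilbBC25.isFinLocFreeOfDeg_pull f (d + 1) g Z'.1 Z'.2)
  rw [Nat.add_sub_cancel] at hR
  obtain ⟨h, hh, -⟩ := hZ T' ⟨R, hR⟩
  let ψ : T' ⟶ T := Over.homMk (pullback.lift h.left x' (by rw [Over.w, hx']))
    (by
      show pullback.lift h.left x' _ ≫ pullback.fst H.hom f ≫ H.hom = T'.hom
      rw [pullback.lift_fst_assoc, Over.w])
  have hψπ : ψ ≫ π = h := by ext; exact pullback.lift_fst _ _ _
  have hψx : ψ.left ≫ xT = x' := pullback.lift_snd _ _ _
  have hψm : ψ ≫ m = g := by
    refine (hZ' T' ⟨_, HilbBC25.isFinLocFreeOfDeg_pull f (d + 1) g Z'.1 Z'.2⟩).unique ?_ rfl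
    show HilbD.pull f (ψ ≫ m) Z'.1 = HilbD.pull f g Z'.1
    rw [HilbBC25.pull_comp, hm', pull_mul, ← HilbBC25.pull_comp, hψπ, hh, pull_secGraph, hWR, mul_comm,
      secGraph_congr f _ hx' hψx]
  have hψφ : ψ.left ≫ φ = 𝟙 _ := by
    rw [← cancel_mono ι', Category.assoc, hφ, Category.id_comp]
    apply pullback.hom_ext
    · simp only [Category.assoc, HilbBC25.XTmap_fst, σT, pullback.lift_fst, hψx]
      rfl
    · have h1 := congrArg CommaMorphism.left hψm
      simp only [Category.assoc, HilbBC25.XTmap_snd, σT, pullback.lift_snd_assoc]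
      rw [Category.id_comp]
      exact h1
  have hφq : φ ≫ q' = m.left := by
    simp only [q', ← Category.assoc, hφ]
    rw [Category.assoc, HilbBC25.XTmap_snd, ← Category.assoc, pullback.lift_snd, Category.id_comp]
  let Φ : T ⟶ T' := Over.homMk φ (by
    show φ ≫ q' ≫ H'.hom = T.hom
    rw [reassoc_of% hφq, Over.w])
  have hΦg : Φ ≫ g = m := by ext; exact hφq
  have hΦx : φ ≫ x' = xT := by
    simp only [x', ← Category.assoc, hφ]
    rw [Category.assoc, HilbBC25.XTmap_fst, pullback.lift_fst]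
  have hΦh : Φ ≫ h = π := by
    refine (hZ T ⟨_, HilbBC25.isFinLocFreeOfDeg_pull f d π Z.1 Z.2⟩).unique ?_ rfl
    show HilbD.pull f (Φ ≫ h) Z.1 = HilbD.pull f π Z.1
    have hσc := isFinLocFreeOfDeg_one_section (PicF.XTproj f T) σT (pullback.lift_snd _ _ _)
    refine EffCartier.eq_of_mul_eq_mul_right
      (isEffCartierIdeal_of_isFinLocFree (PicF.XTproj f T) σT.ker hσc.1.1 hσc.1.2.1 hσc.1.2.2) ?_
    show _ * HilbD.secGraph f T xT hxT = _ * HilbD.secGraph f T xT hxT
    rw [← hm', ← hΦg, HilbBC25.pull_comp f Φ g, hWR, pull_mul, pull_secGraph, HilbBC25.pull_comp f Φ h, hh,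
      mul_comm,
      secGraph_congr f (x := Φ.left ≫ x') (y := xT) (by rw [Category.assoc, hx', Over.w]) hxT hΦx]
  have hφψ : φ ≫ ψ.left = 𝟙 _ := by
    apply pullback.hom_ext
    · rw [Category.assoc, Category.id_comp]
      exact (congrArg (φ ≫ ·) (congrArg CommaMorphism.left hψπ)).trans (congrArg CommaMorphism.left hΦh)
    · rw [Category.assoc, Category.id_comp]
      exact (congrArg (φ ≫ ·) hψx).trans hΦx
  haveI : IsIso φ := ⟨⟨ψ.left, hφψ, hψφ⟩⟩
  obtain ⟨⟨hfin, hflat, hlfp⟩, hdeg⟩ := Z'.2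
  haveI : IsFinite q' := hfin
  haveI : Flat q' := hflat
  haveI : LocallyOfFinitePresentation q' := hlfp
  rw [← hφq]
  exact ⟨⟨inferInstance, inferInstance, inferInstance⟩, fun y => by
    rw [Scheme.Hom.finrank_comp_left_of_isIso]; exact hdeg y⟩

end Groth.Agent.CurveCartier25
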