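import Groth.Agent.Lib.CurveCartier25.Sum
import Groth.Prelude.Def_W4c6dblnestedhilbptsFlags

/-!
# Flags of relative divisors and their edge data
-/

set_option autoImplicit false
set_option backward.isDefEq.respectTransparency.types false

universe u

open CategoryTheory AlgebraicGeometry

namespace Groth.Agent.CurveCartier25

open HilbD

variable {X S : Scheme.{u}} {f : X ⟶ S} [SmoothOfRelativeDimension 1 f]

theorem isEffCartier_of_isDivOfDeg {d : ℕ} {I : X.IdealSheafData} (h : IsDivOfDeg f d I) :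
    BlowUp.IsEffCartierIdeal I :=
  isEffCartierIdeal_of_isFinLocFree f I h.1.1 h.1.2.1 h.1.2.2

/-- Two relative divisors of the same degree, one contained in the other, are equal. -/
theorem eq_of_le_of_deg {d : ℕ} {I J : X.IdealSheafData} (hI : IsDivOfDeg f d I) (hJ : IsDivOfDeg f d J)
    (h : J ≤ I) : J = I := by
  obtain ⟨K, hK, hJK⟩ := isFinLocFreeOfDeg_colon f I J h d d hI hJ
  have : IsEmpty K.subscheme := ⟨fun x => by
    haveI : IsFinite (K.subschemeι ≫ f) := hK.1.1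
    haveI : Flat (K.subschemeι ≫ f) := hK.1.2.1
    have h1 := Scheme.Hom.one_le_finrank_map (K.subschemeι ≫ f) x
    rw [hK.2, Nat.sub_self] at h1
    exact Nat.not_succ_le_zero _ h1⟩
  have hK' : K = ⊤ := by
    rw [← Scheme.IdealSheafData.support_eq_bot_iff]
    refine le_bot_iff.1 fun x hx => ?_
    rw [← SetLike.mem_coe, ← Scheme.IdealSheafData.range_subschemeι] at hx
    obtain ⟨y, -⟩ := hx
    exact this.elim y
  rw [hJK, hK']
  exact Scheme.IdealSheafData.ext (funext fun U => by simp)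

variable {μ : YoungDiagram} {n : ℕ × ℕ → ℕ}

/-- Flags have exactly one edge data, and its squares commute. -/
theorem existsUnique_edgeData (h00 : ((0, 0) : ℕ × ℕ) ∈ μ)
    (Z : ∀ c : ℕ × ℕ, c ∈ μ → X.IdealSheafData) (hZ : IsDnFlag f μ n Z) :
    (∃! E : DnEdgeData μ X, E.IsOfType f n ∧ E.IsEdgesOf h00 Z) ∧
      ∀ E : DnEdgeData μ X, E.IsEdgesOf h00 Z →
        ∀ (c : ℕ × ℕ) (hc : c ∈ μ) (hi : 1 ≤ c.1) (hj : 1 ≤ c.2),
          E.gammaOne c hc hi hj = E.gammaTwo c hc hi hj := by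
  obtain ⟨hd, hmono⟩ := hZ
  have hC : ∀ c hc, BlowUp.IsEffCartierIdeal (Z c hc) := fun c hc => isEffCartier_of_isDivOfDeg (hd c hc)
  have hres : ∀ (c c' : ℕ × ℕ) (hc : c ∈ μ) (hc' : c' ∈ μ), c ≤ c' →
      ∃ I : X.IdealSheafData, IsDivOfDeg f (n c' - n c) I ∧ Z c' hc' = Z c hc * I := fun c c' hc hc' hle =>
    isFinLocFreeOfDeg_colon f _ _ (hmono c c' hc hc' hle) _ _ (hd c hc) (hd c' hc')
  choose R hR hR' using hres
  refine ⟨⟨⟨Z (0, 0) h00,
      fun c hc _ => R (c.1 - 1, c.2) c (mem_up hc) hc ⟨Nat.sub_le c.1 1, le_rfl⟩,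
      fun c hc _ => R (c.1, c.2 - 1) c (mem_left hc) hc ⟨le_rfl, Nat.sub_le c.2 1⟩⟩,
    ⟨⟨hd _ h00, fun c hc _ => hR _ _ _ _ _, fun c hc _ => hR _ _ _ _ _⟩,
      rfl, fun c hc _ => hR' _ _ _ _ _, fun c hc _ => hR' _ _ _ _ _⟩, ?_⟩, ?_⟩
  · rintro E ⟨-, hb, hv, hh⟩
    refine DnEdgeData.ext hb.symm (funext fun c => funext fun hc => funext fun hi => ?_)
      (funext fun c => funext fun hc => funext fun hj => ?_)
    · refine EffCartier.eq_of_mul_eq_mul_right (hC _ (mem_up hc)) ?_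
      rw [mul_comm, ← hv c hc hi, mul_comm, ← hR']
    · refine EffCartier.eq_of_mul_eq_mul_right (hC _ (mem_left hc)) ?_
      rw [mul_comm, ← hh c hc hj, mul_comm, ← hR']
  · rintro E ⟨-, hv, hh⟩ c hc hi hj
    refine EffCartier.eq_of_mul_eq_mul_right (hC _ (mem_left (mem_up hc))) ?_
    have h1 := hv c hc hi
    rw [hh (c.1 - 1, c.2) (mem_up hc) hj] at h1
    have h2 := hh c hc hj
    rw [hv (c.1, c.2 - 1) (mem_left hc) hi] at h2
    have h := h1.symm.trans h2
    simp only [DnEdgeData.gammaOne, DnEdgeData.gammaTwo]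
    simp only [mul_assoc, mul_comm, mul_left_comm] at h ⊢
    exact h

/-- The family built from edge data, along the first column and then along rows. -/
noncomputable def flagOf (E : DnEdgeData μ X) : (i j : ℕ) → (i, j) ∈ μ → X.IdealSheafData
  | 0, 0, _ => E.base
  | i + 1, 0, h => flagOf E i 0 (mem_up h) * E.vert (i + 1, 0) h (Nat.succ_pos i)
  | i, j + 1, h => flagOf E i j (mem_left h) * E.horiz (i, j + 1) h (Nat.succ_pos j)

/-- Compatible edge data comes from exactly one flag. -/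
theorem existsUnique_flag (h00 : ((0, 0) : ℕ × ℕ) ∈ μ) (hn : IsRevPlanePartition μ n)
    (E : DnEdgeData μ X) (hE : E.IsOfType f n)
    (hcomm : ∀ (c : ℕ × ℕ) (hc : c ∈ μ) (hi : 1 ≤ c.1) (hj : 1 ≤ c.2),
      E.gammaOne c hc hi hj ≤ E.gammaTwo c hc hi hj) :
    ∃! Z : ∀ c : ℕ × ℕ, c ∈ μ → X.IdealSheafData, IsDnFlag f μ n Z ∧ E.IsEdgesOf h00 Z := by
  obtain ⟨hb, hv, hh⟩ := hE
  have hγ : ∀ (i j : ℕ) (h : (i + 1, j + 1) ∈ μ),
      E.vert (i + 1, j + 1) h (Nat.succ_pos i) * E.horiz (i, j + 1) (mem_up h) (Nat.succ_pos j) =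
        E.horiz (i + 1, j + 1) h (Nat.succ_pos j) * E.vert (i + 1, j) (mem_left h) (Nat.succ_pos i) := by
    intro i j h
    have h1 : IsDivOfDeg f (n (i + 1, j + 1) - n (i, j + 1) + (n (i, j + 1) - n (i, j))) _ :=
      isFinLocFreeOfDeg_mul f _ _ _ _ (hv (i + 1, j + 1) h (Nat.succ_pos i))
        (hh (i, j + 1) (mem_up h) (Nat.succ_pos j))
    have h2 : IsDivOfDeg f (n (i + 1, j + 1) - n (i + 1, j) + (n (i + 1, j) - n (i, j))) _ :=
      isFinLocFreeOfDeg_mul f _ _ _ _ (hh (i + 1, j + 1) h (Nat.succ_pos j))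
        (hv (i + 1, j) (mem_left h) (Nat.succ_pos i))
    have a1 : n (i, j) ≤ n (i, j + 1) := hn (mem_left (mem_up h)) (mem_up h) ⟨le_rfl, Nat.le_succ j⟩
    have a2 : n (i, j + 1) ≤ n (i + 1, j + 1) := hn (mem_up h) h ⟨Nat.le_succ i, le_rfl⟩
    have a3 : n (i, j) ≤ n (i + 1, j) := hn (mem_left (mem_up h)) (mem_left h) ⟨Nat.le_succ i, le_rfl⟩
    have a4 : n (i + 1, j) ≤ n (i + 1, j + 1) := hn (mem_left h) h ⟨le_rfl, Nat.le_succ j⟩
    rw [show n (i + 1, j + 1) - n (i, j + 1) + (n (i, j + 1) - n (i, j)) =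
      n (i + 1, j + 1) - n (i + 1, j) + (n (i + 1, j) - n (i, j)) by omega] at h1
    exact eq_of_le_of_deg h2 h1 (hcomm (i + 1, j + 1) h (Nat.succ_pos i) (Nat.succ_pos j))
  have hvert : ∀ (j i : ℕ) (h : (i + 1, j) ∈ μ),
      flagOf E (i + 1) j h = flagOf E i j (mem_up h) * E.vert (i + 1, j) h (Nat.succ_pos i) := by
    intro j
    induction j with
    | zero => intro i h; rw [flagOf]
    | succ j ih =>
      intro i h
      rw [flagOf, ih i (mem_left h), flagOf, mul_assoc, mul_assoc]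
      congr 1
      rw [mul_comm, ← hγ i j h, mul_comm]
  have hdeg : ∀ (j i : ℕ) (h : (i, j) ∈ μ), IsDivOfDeg f (n (i, j)) (flagOf E i j h) := by
    intro j
    induction j with
    | zero =>
      intro i
      induction i with
      | zero => intro h; rw [flagOf]; exact hb
      | succ i ih =>
        intro h
        rw [flagOf]
        have h1 := isFinLocFreeOfDeg_mul f _ _ _ _ (ih (mem_up h)) (hv (i + 1, 0) h (Nat.succ_pos i))
        have a : n (i, 0) ≤ n (i + 1, 0) := hn (mem_up h) h ⟨Nat.le_succ i, le_rfl⟩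
        rwa [show n (i, 0) + (n (i + 1, 0) - n (((i + 1, 0) : ℕ × ℕ).1 - 1, ((i + 1, 0) : ℕ × ℕ).2)) = n (i + 1, 0)
          from Nat.add_sub_cancel' a] at h1
    | succ j ih =>
      intro i h
      rw [flagOf]
      have h1 := isFinLocFreeOfDeg_mul f _ _ _ _ (ih i (mem_left h)) (hh (i, j + 1) h (Nat.succ_pos j))
      have a : n (i, j) ≤ n (i, j + 1) := hn (mem_left h) h ⟨le_rfl, Nat.le_succ j⟩
      rwa [show n (i, j) + (n (i, j + 1) - n (((i, j + 1) : ℕ × ℕ).1, ((i, j + 1) : ℕ × ℕ).2 - 1)) = n (i, j + 1)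
        from Nat.add_sub_cancel' a] at h1
  have hrow : ∀ (i j k : ℕ) (h : (i, j) ∈ μ) (h' : (i, j + k) ∈ μ), flagOf E i (j + k) h' ≤ flagOf E i j h := by
    intro i j k
    induction k with
    | zero => intro h h'; exact le_rfl
    | succ k ih =>
      intro h h'
      refine le_trans ?_ (ih h (mem_left h'))
      rw [show flagOf E i (j + (k + 1)) h' = _ from flagOf.eq_3 E i (j + k) h']
      exact mul_le_left _ _
  have hcol : ∀ (i j k : ℕ) (h : (i, j) ∈ μ) (h' : (i + k, j) ∈ μ), flagOf E (i + k) j h' ≤ flagOf E i j h := by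
    intro i j k
    induction k with
    | zero => intro h h'; exact le_rfl
    | succ k ih =>
      intro h h'
      refine le_trans ?_ (ih h (mem_up h'))
      rw [show flagOf E (i + (k + 1)) j h' = _ from hvert j (i + k) h']
      exact mul_le_left _ _
  refine ⟨fun c hc => flagOf E c.1 c.2 hc, ⟨⟨fun c hc => hdeg c.2 c.1 hc, ?_⟩, ?_, ?_, ?_⟩, ?_⟩
  · rintro ⟨i, j⟩ ⟨i', j'⟩ hc hc' ⟨hi : i ≤ i', hj : j ≤ j'⟩
    obtain ⟨k, rfl⟩ := Nat.exists_eq_add_of_le hi
    obtain ⟨l, rfl⟩ := Nat.exists_eq_add_of_le hj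
    have hm : (i + k, j) ∈ μ := μ.isLowerSet (show ((i + k, j) : ℕ × ℕ) ≤ (i + k, j + l) from
      ⟨le_rfl, Nat.le_add_right j l⟩) hc'
    exact (hrow (i + k) j l hm hc').trans (hcol i j k hc hm)
  · show flagOf E 0 0 h00 = _
    rw [flagOf]
  · rintro ⟨_ | i, j⟩ hc hi
    · exact absurd hi (Nat.not_succ_le_zero 0)
    · exact hvert j i hc
  · rintro ⟨i, _ | j⟩ hc hj
    · exact absurd hj (Nat.not_succ_le_zero 0)
    · show flagOf E i (j + 1) hc = _
      rw [flagOf]
      rfl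
  · rintro Z ⟨-, hb', hv', hh'⟩
    suffices h : ∀ (j i : ℕ) (h : (i, j) ∈ μ), Z (i, j) h = flagOf E i j h from
      funext fun c => funext fun hc => h c.2 c.1 hc
    intro j
    induction j with
    | zero =>
      intro i
      induction i with
      | zero => intro h; rw [flagOf]; exact hb'
      | succ i ih =>
        intro h
        rw [flagOf, ← ih (mem_up h)]
        exact hv' (i + 1, 0) h (Nat.succ_pos i)
    | succ j ih =>
      intro i h
      rw [flagOf, ← ih i (mem_left h)]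
      exact hh' (i, j + 1) h (Nat.succ_pos j)

end Groth.Agent.CurveCartier25
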