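import Groth.Agent.Lib.CurveCartier25.Smooth
import Mathlib.AlgebraicGeometry.Morphisms.UniversallyClosed

/-!
# Universal closedness of the Hilbert schemes of points of a curve
-/

set_option autoImplicit false
set_option linter.style.haveILetI false
set_option backward.isDefEq.respectTransparency.types false

universe u

open CategoryTheory CategoryTheory.Limits AlgebraicGeometry

namespace Groth.Agent.CurveCartier25

variable {X S : Scheme.{u}} (f : X ⟶ S)

variable [IsSeparated f] [SmoothOfRelativeDimension 1 f]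

/-- The Hilbert schemes of points of a universally closed smooth curve are universally closed. -/
theorem universallyClosed_hilb [UniversallyClosed f] (hrep : ∀ e : ℕ, HilbD.Representable f e) : ∀ (d : ℕ) (H : Over S) (Z : HilbD.Obj f d H),
    HilbD.IsUniversal f d H Z → UniversallyClosed H.hom := by
  intro d
  induction d with
  | zero =>
    intro H Z hZ
    have huniq : ∀ (T : Over S), Nonempty (Unique (T ⟶ H)) := fun T => by
      haveI := smooth_XTproj f T
      obtain ⟨g, -, hg⟩ := hZ T ⟨⊤, isFinLocFreeOfDeg_top _⟩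
      exact ⟨⟨⟨g⟩, fun g' => hg g'
        ((eq_top_of_deg_zero _ _ (HilbBC25.isFinLocFreeOfDeg_pull f 0 g' Z.1 Z.2)).trans rfl)⟩⟩
    obtain ⟨u⟩ := huniq (Over.mk (𝟙 S))
    obtain ⟨v⟩ := huniq H
    have h1 : u.default.left ≫ H.hom = 𝟙 S := Over.w u.default
    have h2 : H.hom ≫ u.default.left = 𝟙 H.left :=
      (congrArg CommaMorphism.left ((v.uniq (Over.homMk (H.hom ≫ u.default.left)
        (by rw [Category.assoc, h1, Category.comp_id]) : H ⟶ H)).trans (v.uniq (𝟙 H)).symm))
    haveI : IsIso H.hom := ⟨⟨u.default.left, h2, h1⟩⟩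
    infer_instance
  | succ d ih =>
    intro H' Z' hZ'
    obtain ⟨H, Z, hZ⟩ := hrep d
    haveI : UniversallyClosed H.hom := ih H Z hZ
    let T : Over S := Over.mk (pullback.fst H.hom f ≫ H.hom)
    let π : T ⟶ H := Over.homMk (pullback.fst H.hom f) rfl
    let xT : T.left ⟶ X := pullback.snd H.hom f
    have hxT : xT ≫ f = T.hom := pullback.condition.symm
    haveI := smooth_XTproj f T
    have hP : Mor2.IsFinLocFreeOfDeg (d + 1)
        ((HilbD.pull f π Z.1 * HilbD.secGraph f T xT hxT).subschemeι ≫ PicF.XTproj f T) :=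
      isFinLocFreeOfDeg_mul (PicF.XTproj f T) _ _ d 1 (HilbBC25.isFinLocFreeOfDeg_pull f d π Z.1 Z.2)
        (isFinLocFreeOfDeg_one_section (PicF.XTproj f T)
          (pullback.lift xT (𝟙 T.left) (by simpa using hxT)) (pullback.lift_snd _ _ _))
    obtain ⟨m, hm, -⟩ := hZ' T ⟨_, hP⟩
    obtain ⟨⟨hfin, hflat, hlfp⟩, hdeg⟩ := isFinLocFreeOfDeg_addPoint f d H Z hZ H' Z' hZ' m hm
    have hsurj : Surjective m.left := (Scheme.Hom.one_le_finrank_iff_surjective m.left).1 fun y => by
      rw [hdeg y]; exact Nat.succ_le_succ (Nat.zero_le d)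
    haveI : UniversallyClosed (m.left ≫ H'.hom) := by
      rw [Over.w m]
      show UniversallyClosed (pullback.fst H.hom f ≫ H.hom)
      haveI : UniversallyClosed (pullback.fst H.hom f) := MorphismProperty.pullback_fst _ _ inferInstance
      infer_instance
    exact UniversallyClosed.of_comp_surjective m.left H'.hom

end Groth.Agent.CurveCartier25
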