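import Groth.Agent.Lib.CurveCartier25.AddPoint
import Groth.Agent.Lib.AlgSpDescent.FppfComp

/-!
# Smoothness of the Hilbert schemes of points of a smooth curve
-/

set_option autoImplicit false
set_option linter.style.haveILetI false
set_option backward.isDefEq.respectTransparency.types false

universe u

open CategoryTheory CategoryTheory.Limits AlgebraicGeometry

namespace Groth.Agent.CurveCartier25

variable {X S : Scheme.{u}} (f : X ⟶ S)

theorem eq_top_of_deg_zero {Y T : Scheme.{u}} (p : Y ⟶ T) (I : Y.IdealSheafData)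
    (h : Mor2.IsFinLocFreeOfDeg 0 (I.subschemeι ≫ p)) : I = ⊤ := by
  rw [← Scheme.IdealSheafData.support_eq_bot_iff]
  refine le_bot_iff.1 fun x hx => ?_
  rw [← SetLike.mem_coe, ← Scheme.IdealSheafData.range_subschemeι] at hx
  obtain ⟨y, -⟩ := hx
  haveI : IsFinite (I.subschemeι ≫ p) := h.1.1
  haveI : Flat (I.subschemeι ≫ p) := h.1.2.1
  have h1 := Scheme.Hom.one_le_finrank_map (I.subschemeι ≫ p) y
  rw [h.2] at h1
  exact absurd h1 (Nat.not_succ_le_zero 0)

/-- The empty family. -/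
theorem isFinLocFreeOfDeg_top {Y T : Scheme.{u}} (p : Y ⟶ T) [SmoothOfRelativeDimension 1 p] :
    Mor2.IsFinLocFreeOfDeg 0 ((⊤ : Y.IdealSheafData).subschemeι ≫ p) := by
  haveI : IsEmpty (⊤ : Y.IdealSheafData).subscheme := ⟨fun y => by
    have : (⊤ : Y.IdealSheafData).subschemeι y ∈ ((⊤ : Y.IdealSheafData).support : Set Y) := by
      rw [← Scheme.IdealSheafData.range_subschemeι]; exact ⟨y, rfl⟩
    rw [Scheme.IdealSheafData.support_top] at this
    exact this⟩
  have hfl : Mor2.IsFinLocFree ((⊤ : Y.IdealSheafData).subschemeι ≫ p) :=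
    ⟨inferInstance, inferInstance, inferInstance⟩
  refine ⟨hfl, fun t => ?_⟩
  have h := finrank_mul p ⊤ ⊤ hfl hfl t
  have htop : (⊤ : Y.IdealSheafData) * ⊤ = ⊤ := Scheme.IdealSheafData.ext (funext fun U => by simp)
  rw [htop] at h
  omega

variable [IsSeparated f] [SmoothOfRelativeDimension 1 f]

/-- The Hilbert schemes of points of a smooth curve are smooth. -/
theorem smooth_hilb (hrep : ∀ e : ℕ, HilbD.Representable f e) : ∀ (d : ℕ) (H : Over S) (Z : HilbD.Obj f d H),
    HilbD.IsUniversal f d H Z → Smooth H.hom := by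
  intro d
  induction d with
  | zero =>
    intro H Z hZ
    have huniq : ∀ (T : Over S), Nonempty (Unique (T ⟶ H)) := fun T => by
      haveI := smooth_XTproj f T
      obtain ⟨g, -, hg⟩ := hZ T ⟨⊤, isFinLocFreeOfDeg_top _⟩
      exact ⟨⟨⟨g⟩, fun g' => hg g'
        ((eq_top_of_deg_zero _ _ (HilbBC25.isFinLocFreeOfDeg_pull f 0 g' Z.1 Z.2)).trans rfl)⟩⟩
    obtain ⟨u⟩ := huniq (Over.mk (𝟙 S))
    obtain ⟨v⟩ := huniq H
    have h1 : u.default.left ≫ H.hom = 𝟙 S := Over.w u.default
    have h2 : H.hom ≫ u.default.left = 𝟙 H.left :=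
      (congrArg CommaMorphism.left ((v.uniq (Over.homMk (H.hom ≫ u.default.left)
        (by rw [Category.assoc, h1, Category.comp_id]) : H ⟶ H)).trans (v.uniq (𝟙 H)).symm))
    haveI : IsIso H.hom := ⟨⟨u.default.left, h2, h1⟩⟩
    infer_instance
  | succ d ih =>
    intro H' Z' hZ'
    obtain ⟨H, Z, hZ⟩ := hrep d
    haveI : Smooth H.hom := ih H Z hZ
    haveI : Smooth f := SmoothOfRelativeDimension.smooth (n := 1) f
    let T : Over S := Over.mk (pullback.fst H.hom f ≫ H.hom)
    let π : T ⟶ H := Over.homMk (pullback.fst H.hom f) rfl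
    let xT : T.left ⟶ X := pullback.snd H.hom f
    have hxT : xT ≫ f = T.hom := pullback.condition.symm
    haveI := smooth_XTproj f T
    have hP : Mor2.IsFinLocFreeOfDeg (d + 1)
        ((HilbD.pull f π Z.1 * HilbD.secGraph f T xT hxT).subschemeι ≫ PicF.XTproj f T) :=
      isFinLocFreeOfDeg_mul (PicF.XTproj f T) _ _ d 1 (HilbBC25.isFinLocFreeOfDeg_pull f d π Z.1 Z.2)
        (isFinLocFreeOfDeg_one_section (PicF.XTproj f T)
          (pullback.lift xT (𝟙 T.left) (by simpa using hxT)) (pullback.lift_snd _ _ _))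
    obtain ⟨m, hm, -⟩ := hZ' T ⟨_, hP⟩
    obtain ⟨⟨hfin, hflat, hlfp⟩, hdeg⟩ := isFinLocFreeOfDeg_addPoint f d H Z hZ H' Z' hZ' m hm
    have hsurj : Surjective m.left := (Scheme.Hom.one_le_finrank_iff_surjective m.left).1 fun y => by
      rw [hdeg y]; exact Nat.succ_le_succ (Nat.zero_le d)
    refine AlgSpDescent.smooth_of_fppf_comp m.left H'.hom hflat hlfp hsurj ?_
    rw [Over.w m]
    show Smooth (pullback.fst H.hom f ≫ H.hom)
    haveI : Smooth (pullback.fst H.hom f) := MorphismProperty.pullback_fst _ _ inferInstance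
    infer_instance

end Groth.Agent.CurveCartier25
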