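import Groth.Agent.Lib.CurveCartier25.Smooth

/-!
# Relative divisors split into sections after a finite locally free base change
-/

set_option autoImplicit false
set_option linter.style.haveILetI false
set_option backward.isDefEq.respectTransparency.types false

universe u

open CategoryTheory CategoryTheory.Limits AlgebraicGeometry

namespace Groth.Agent.CurveCartier25

theorem one_eq_top {Y : Scheme.{u}} : (1 : Y.IdealSheafData) = ⊤ :=
  Scheme.IdealSheafData.ext (funext fun U => by simp)

theorem comap_one {Y Y' : Scheme.{u}} (c : Y' ⟶ Y) : (1 : Y.IdealSheafData).comap c = 1 := by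
  rw [one_eq_top, one_eq_top]
  exact EffCartier.comap_eq_top _ _ fun x hx => by
    rw [Scheme.IdealSheafData.support_top] at hx
    exact hx

theorem comap_prod {Y Y' : Scheme.{u}} (c : Y' ⟶ Y) {ι : Type*} (s : Finset ι)
    (J : ι → Y.IdealSheafData) : (∏ i ∈ s, J i).comap c = ∏ i ∈ s, (J i).comap c :=
  map_prod (MonoidHom.mk (OneHom.mk (fun K : Y.IdealSheafData => K.comap c) (comap_one c))
    fun A B => EffCartier.comap_mul A B c) J s

/-- Base change of the image of a section. -/
theorem comap_ker_section {Y T Y' T' : Scheme.{u}} {p : Y ⟶ T} {p' : Y' ⟶ T'} {c : Y' ⟶ Y} {b : T' ⟶ T}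
    (h : IsPullback c p' p b) (σ : T ⟶ Y) [IsClosedImmersion σ] (σ' : T' ⟶ Y') (hσ : σ ≫ p = 𝟙 T)
    (hσ' : σ' ≫ p' = 𝟙 T') (hc : σ' ≫ c = b ≫ σ) : σ.ker.comap c = σ'.ker := by
  have sq : IsPullback b σ' σ c := by
    refine IsPullback.of_bot ?_ hc.symm h
    rw [hσ, hσ']
    exact IsPullback.of_vert_isIso ⟨by simp⟩
  rw [← Scheme.IdealSheafData.ker_fst_of_isClosedImmersion, ← sq.flip.isoPullback_hom_fst,
    Scheme.Hom.ker_comp_of_isIso]

theorem isClosedImmersion_section {Y T : Scheme.{u}} (p : Y ⟶ T) [IsSeparated p] (σ : T ⟶ Y)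
    (hσ : σ ≫ p = 𝟙 T) : IsClosedImmersion σ := by
  haveI : IsClosedImmersion (σ ≫ p) := by rw [hσ]; infer_instance
  exact IsClosedImmersion.of_comp σ p

/-- After an fppf base change a relative divisor is a sum of sections. -/
theorem exists_split : ∀ (d : ℕ) {C S : Scheme.{u}} (f : C ⟶ S) [IsSeparated f] [SmoothOfRelativeDimension 1 f]
    (I : C.IdealSheafData), Mor2.IsFinLocFreeOfDeg d (I.subschemeι ≫ f) →
    ∃ (S' : Scheme.{u}) (b : S' ⟶ S), Flat b ∧ Surjective b ∧ LocallyOfFinitePresentation b ∧
      ∃ (x : Fin d → (S' ⟶ C)) (hx : ∀ i, x i ≫ f = b),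
        I.comap (pullback.fst f b) =
          ∏ i, (pullback.lift (x i) (𝟙 S') (by rw [hx i, Category.id_comp]) : S' ⟶ pullback f b).ker := by
  intro d
  induction d with
  | zero =>
    intro C S f _ _ I hI
    refine ⟨S, 𝟙 S, inferInstance, inferInstance, inferInstance, fun i => i.elim0, fun i => i.elim0, ?_⟩
    rw [eq_top_of_deg_zero f I hI, ← one_eq_top, comap_one, Fin.prod_univ_zero]
  | succ d ih =>
    intro C S f _ _ I hI
    obtain ⟨⟨hfin, hflat, hlfp⟩, hdeg⟩ := id hI
    let q := I.subschemeι ≫ f
    haveI : IsFinite q := hfin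
    haveI : Flat q := hflat
    haveI : LocallyOfFinitePresentation q := hlfp
    have hsurj : Surjective q := (Scheme.Hom.one_le_finrank_iff_surjective q).1 fun y => by
      rw [hdeg y]; exact Nat.succ_le_succ (Nat.zero_le d)
    let p := pullback.snd f q
    haveI : IsSeparated p := MorphismProperty.pullback_snd f q inferInstance
    haveI : SmoothOfRelativeDimension 1 p :=
      haveI := smoothOfRelativeDimension_isStableUnderBaseChange.{u} 1
      MorphismProperty.pullback_snd (P := @SmoothOfRelativeDimension 1) f q inferInstance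
    let τ : I.subscheme ⟶ pullback f q := pullback.lift I.subschemeι (𝟙 _) (by simp [q])
    have hτ : τ ≫ p = 𝟙 _ := pullback.lift_snd _ _ _
    haveI := isClosedImmersion_section p τ hτ
    let c := pullback.fst f q
    have hID : Mor2.IsFinLocFreeOfDeg (d + 1) ((I.comap c).subschemeι ≫ p) := by
      refine HilbBC25.isFinLocFreeOfDeg_of_isPullback
        (a := (I.comapIso c).hom ≫ pullback.snd c I.subschemeι) (b := q) ?_ hI
      refine (((IsPullback.of_hasPullback c I.subschemeι).flip).paste_vert
        (IsPullback.of_hasPullback f q)).of_iso (I.comapIso c).symm (Iso.refl _) (Iso.refl _) (Iso.refl _)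
        (by simp [← Scheme.IdealSheafData.comapIso_hom_snd, -Scheme.IdealSheafData.comapIso_hom_snd]) ?_ (by simp) (by simp [q])
      rw [Iso.refl_hom, Category.comp_id, Iso.symm_hom, Scheme.IdealSheafData.comapIso_inv_subschemeι_assoc]
    have hle : I.comap c ≤ τ.ker := by
      rw [le_ker_iff, ← Scheme.IdealSheafData.comap_comp, pullback.lift_fst, comap_self]
    obtain ⟨R, hR, hIR⟩ := isFinLocFreeOfDeg_colon p _ _ hle 1 (d + 1)
      (isFinLocFreeOfDeg_one_section p τ hτ) hID
    rw [Nat.add_sub_cancel] at hR
    obtain ⟨S', b', hb₁, hb₂, hb₃, y, hy, hprod⟩ := ih p R hR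
    have hy' : ∀ i, (y i ≫ c) ≫ f = b' ≫ q := fun i => by
      rw [Category.assoc, show c ≫ f = p ≫ q from pullback.condition, reassoc_of% hy i]
    have hx₀ : (b' ≫ I.subschemeι) ≫ f = b' ≫ q := Category.assoc _ _ _
    let x : Fin (d + 1) → (S' ⟶ C) := Fin.cons (b' ≫ I.subschemeι) fun i => y i ≫ c
    have hx : ∀ i, x i ≫ f = b' ≫ q := fun i => by
      induction i using Fin.cases with
      | zero => exact hx₀
      | succ i => exact hy' i
    refine ⟨S', b' ≫ q, inferInstance, inferInstance, inferInstance, x, hx, ?_⟩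
    -- the two base changes agree
    let e := pullbackLeftPullbackSndIso f q b'
    have he₁ : e.inv ≫ pullback.fst p b' ≫ c = pullback.fst f (b' ≫ q) :=
      pullbackLeftPullbackSndIso_inv_fst f q b'
    have he₂ : e.inv ≫ pullback.snd p b' = pullback.snd f (b' ≫ q) :=
      pullbackLeftPullbackSndIso_inv_snd_snd f q b'
    have hsq : IsPullback (e.inv ≫ pullback.fst p b') (pullback.snd f (b' ≫ q)) p b' :=
      (IsPullback.of_hasPullback p b').of_iso e (Iso.refl _) (Iso.refl _) (Iso.refl _)
        (by simp) (by simp [← he₂]) (by simp) (by simp)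
    refine (congrArg (fun g => I.comap g) he₁).symm.trans ?_
    rw [← Category.assoc e.inv (pullback.fst p b') c, Scheme.IdealSheafData.comap_comp, hIR, EffCartier.comap_mul, Fin.prod_univ_succ]
    congr 1
    · refine comap_ker_section hsq τ _ hτ (pullback.lift_snd _ _ _) ?_
      apply pullback.hom_ext
      · rw [Category.assoc, Category.assoc, Category.assoc, pullback.lift_fst, he₁, pullback.lift_fst]
        simp [x]
      · calc (pullback.lift (x 0) (𝟙 S') _ ≫ e.inv ≫ pullback.fst p b') ≫ p
            = (pullback.lift (x 0) (𝟙 S') (by rw [hx 0, Category.id_comp]) ≫ pullback.snd f (b' ≫ q)) ≫ b' := by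
              rw [Category.assoc, hsq.w, ← Category.assoc]
          _ = b' := by rw [pullback.lift_snd, Category.id_comp]
          _ = (b' ≫ τ) ≫ p := by rw [Category.assoc, hτ, Category.comp_id]
    · rw [Scheme.IdealSheafData.comap_comp, hprod, comap_prod]
      refine Finset.prod_congr rfl fun i _ => ?_
      let σ : S' ⟶ pullback p b' := pullback.lift (y i) (𝟙 S') (by rw [hy i, Category.id_comp])
      haveI : IsSeparated (pullback.snd p b') := MorphismProperty.pullback_snd p b' inferInstance
      haveI := isClosedImmersion_section (pullback.snd p b') σ (pullback.lift_snd _ _ _)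
      have hsq' : IsPullback e.inv (pullback.snd f (b' ≫ q)) (pullback.snd p b') (𝟙 S') :=
        IsPullback.of_horiz_isIso ⟨by rw [Category.comp_id, he₂]⟩
      refine comap_ker_section hsq' σ _ (pullback.lift_snd _ _ _) (pullback.lift_snd _ _ _) ?_
      apply pullback.hom_ext
      · apply pullback.hom_ext
        · rw [Category.assoc, Category.assoc, Category.assoc, he₁, pullback.lift_fst]
          simp [x, σ, c]
          exact (pullback.lift_fst_assoc (y i) (𝟙 S') _ _).symm
        · simp only [Category.assoc]
          rw [show pullback.fst p b' ≫ pullback.snd f q = pullback.snd p b' ≫ b' from pullback.condition,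
            reassoc_of% he₂, pullback.lift_snd_assoc, pullback.lift_snd_assoc]
          simp
      · rw [Category.assoc, Category.assoc, he₂, pullback.lift_snd, pullback.lift_snd, Category.id_comp]

end Groth.Agent.CurveCartier25
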