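import Groth.Agent.Lib.CurveCartier25.Scheme
import Groth.Agent.Lib.CurveCartier25.Rank
import Groth.Agent.Lib.H12.SepDesc
import Groth.Prelude.Def_Mor2
import Mathlib.AlgebraicGeometry.Morphisms.FlatRank
import Mathlib.AlgebraicGeometry.ZariskisMainTheorem

/-!
# Sums of relative divisors
-/

set_option autoImplicit false
set_option linter.style.haveILetI false
set_option backward.isDefEq.respectTransparency.types false

universe u

open CategoryTheory AlgebraicGeometry TopologicalSpace Limits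
open scoped nonZeroDivisors

namespace Groth.Agent.CurveCartier25

open AlgebraicGeometry.Scheme

theorem flat_app {D S : Scheme.{u}} (q : D ⟶ S) [Flat q] {U : S.Opens} (hU : IsAffineOpen U)
    (hV : IsAffineOpen (q ⁻¹ᵁ U)) : (q.app U).hom.Flat := by
  rw [Scheme.Hom.app_eq_appLE]
  exact HasRingHomProperty.appLE @Flat q inferInstance ⟨U, hU⟩ ⟨_, hV⟩ le_rfl

/-- The rank of a finite flat morphism, read on an affine chart. -/
theorem finrank_eq_app {D S : Scheme.{u}} (q : D ⟶ S) [IsFinite q] [Flat q] {U : S.Opens} (hU : IsAffineOpen U)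
    (s : S) (hs : s ∈ U) : (q.app U).hom.finrank (hU.primeIdealOf ⟨s, hs⟩) = q.finrank s := by
  have hV := hU.preimage q
  have hsq : IsPullback hV.fromSpec (Spec.map (q.app U)) q hU.fromSpec := by
    refine (IsOpenImmersion.isPullback _ _ _ _ ?_ ?_).flip
    · rw [Scheme.Hom.app_eq_appLE]
      exact (hU.SpecMap_appLE_fromSpec q hV le_rfl).symm
    · rw [hU.opensRange_fromSpec, hV.opensRange_fromSpec]
  have h := Scheme.Hom.finrank_of_isPullback _ _ _ _ hsq (hU.primeIdealOf ⟨s, hs⟩)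
  rw [Scheme.Hom.finrank_SpecMap_eq_finrank (q.finite_app U hU) (flat_app q hU hV)] at h
  rw [h]
  exact congrArg _ (hU.fromSpec_primeIdealOf ⟨s, hs⟩)

/-- Closed subschemes of a finite flat scheme: rank on an affine chart. -/
theorem finrank_subscheme_eq {D S : Scheme.{u}} (q : D ⟶ S) [IsFinite q] (E : D.IdealSheafData)
    [IsFinite (E.subschemeι ≫ q)] [Flat (E.subschemeι ≫ q)] {U : S.Opens} (hU : IsAffineOpen U)
    (s : S) (hs : s ∈ U) :
    ((Ideal.Quotient.mk (E.ideal ⟨q ⁻¹ᵁ U, hU.preimage q⟩)).comp (q.app U).hom).finrank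
      (hU.primeIdealOf ⟨s, hs⟩) = (E.subschemeι ≫ q).finrank s := by
  rw [← finrank_eq_app (E.subschemeι ≫ q) hU s hs]
  let W : D.affineOpens := ⟨q ⁻¹ᵁ U, hU.preimage q⟩
  have happ : (E.subschemeι ≫ q).app U =
      (q.app U ≫ CommRingCat.ofHom (Ideal.Quotient.mk (E.ideal W))) ≫ (E.subschemeObjIso W).inv := by
    rw [Category.assoc, ← IdealSheafData.subschemeι_app, Scheme.Hom.comp_app]
  have hfin : ((Ideal.Quotient.mk (E.ideal W)).comp (q.app U).hom).Finite :=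
    RingHom.Finite.comp (RingHom.Finite.of_surjective _ Ideal.Quotient.mk_surjective) (q.finite_app U hU)
  have hflat : ((Ideal.Quotient.mk (E.ideal W)).comp (q.app U).hom).Flat := by
    have := prop_quotient (P := @Flat) q E (inferInstance : Flat (E.subschemeι ≫ q)) ⟨U, hU⟩ W le_rfl
    rwa [← Scheme.Hom.app_eq_appLE] at this
  rw [happ]
  exact (RingHom.finrank_comp_left_of_bijective _ _
    (E.subschemeObjIso W).symm.commRingCatIsoToRingEquiv.bijective hfin hflat _).symm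

variable {X S : Scheme.{u}}

theorem mul_le_left (I J : X.IdealSheafData) : I * J ≤ I := fun U => by
  rw [IdealSheafData.ideal_mul, Pi.mul_apply]; exact Ideal.mul_le_left

theorem mul_le_right (I J : X.IdealSheafData) : I * J ≤ J := fun U => by
  rw [IdealSheafData.ideal_mul, Pi.mul_apply]; exact Ideal.mul_le_right

theorem comap_self (J : X.IdealSheafData) : J.comap J.subschemeι = ⊥ := by
  rw [← le_bot_iff, ← IdealSheafData.le_map_iff_comap_le, IdealSheafData.map_bot]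
  exact J.ker_subschemeι.ge

/-- A bigger ideal sheaf, seen inside a closed subscheme. -/
theorem exists_iso_comap {I J : X.IdealSheafData} (h : J ≤ I) :
    ∃ e : (I.comap J.subschemeι).subscheme ≅ I.subscheme,
      e.hom ≫ I.subschemeι = (I.comap J.subschemeι).subschemeι ≫ J.subschemeι := by
  have : IsIso (pullback.snd J.subschemeι I.subschemeι) := by
    refine ⟨pullback.lift (IdealSheafData.inclusion h) (𝟙 _)
      (by rw [IdealSheafData.inclusion_subschemeι, Category.id_comp]), ?_, pullback.lift_snd _ _ _⟩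
    apply pullback.hom_ext
    · rw [← cancel_mono J.subschemeι]
      simp only [Category.assoc, Category.id_comp, pullback.lift_fst_assoc, IdealSheafData.inclusion_subschemeι]
      exact pullback.condition.symm
    · simp only [Category.assoc, Category.id_comp, pullback.lift_snd, Category.comp_id]
  refine ⟨(I.comapIso J.subschemeι) ≪≫ asIso (pullback.snd _ _), ?_⟩
  rw [Iso.trans_hom, asIso_hom, Category.assoc, ← pullback.condition, ← Category.assoc,
    IdealSheafData.comapIso_hom_fst]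

variable (f : X ⟶ S) [SmoothOfRelativeDimension 1 f]

/-- The sum of two flat relative divisors is flat. -/
theorem flat_mul (I₁ I₂ : X.IdealSheafData) (h₁ : BlowUp.IsEffCartierIdeal I₁) (h₂ : BlowUp.IsEffCartierIdeal I₂)
    (hf₁ : Flat (I₁.subschemeι ≫ f)) (hf₂ : Flat (I₂.subschemeι ≫ f)) :
    Flat ((I₁ * I₂).subschemeι ≫ f) := by
  refine (HasRingHomProperty.iff_exists_appLE (P := @Flat)
    (RingHom.Flat.stableUnderComposition.stableUnderCompositionWithLocalizationAway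
      RingHom.Flat.holdsForLocalizationAway).left).2 fun z => ?_
  obtain ⟨_, ⟨U, hU, rfl⟩, hsU, -⟩ := S.isBasis_affineOpens.exists_subset_of_mem_open
    (Set.mem_univ (f ((I₁ * I₂).subschemeι z))) isOpen_univ
  obtain ⟨V, hxV, e, ⟨g₁, hg₁⟩, g₂, hg₂⟩ :=
    EffCartier.exists_isEqn₂ h₁ h₂ (x := (I₁ * I₂).subschemeι z) (W := f ⁻¹ᵁ U) hsU
  have e' : (I₁ * I₂).subschemeι ⁻¹ᵁ V.1 ≤ ((I₁ * I₂).subschemeι ≫ f) ⁻¹ᵁ U :=
    (I₁ * I₂).subschemeι.preimage_mono e
  refine ⟨⟨U, hU⟩, ⟨_, V.2.preimage (I₁ * I₂).subschemeι⟩, hxV, e',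
    appLE_prop_of_quotient f (I₁ * I₂) RingHom.Flat.respectsIso ⟨U, hU⟩ V e e' ?_⟩
  algebraize [(f.appLE U V.1 e).hom]
  have hV : ∀ (I : X.IdealSheafData), Flat (I.subschemeι ≫ f) → Module.Flat Γ(S, U) (Γ(X, V.1) ⧸ I.ideal V) :=
    fun I hI => by
      rw [← RingHom.flat_algebraMap_iff]
      exact prop_quotient (P := @Flat) f I hI ⟨U, hU⟩ V e
  haveI : Module.Flat Γ(S, U) (Γ(X, V.1) ⧸ Ideal.span {g₁}) := hg₁.ideal_eq ▸ hV I₁ hf₁
  haveI : Module.Flat Γ(S, U) (Γ(X, V.1) ⧸ Ideal.span {g₂}) := hg₂.ideal_eq ▸ hV I₂ hf₂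
  have := flat_quotient_mul (A := Γ(S, U)) (g := g₁) hg₂.mem
  rw [← Ideal.span_singleton_mul_span_singleton, ← hg₁.ideal_eq, ← hg₂.ideal_eq] at this
  rw [IdealSheafData.ideal_mul, Pi.mul_apply]
  exact RingHom.flat_algebraMap_iff.2 this

/-- A point of the sum lies on one of the summands. -/
theorem mem_support_of_mul (I₁ I₂ : X.IdealSheafData) (h₁ : BlowUp.IsEffCartierIdeal I₁)
    (h₂ : BlowUp.IsEffCartierIdeal I₂) {x : X} (hx : x ∈ (I₁ * I₂).support) :
    x ∈ I₁.support ∨ x ∈ I₂.support := by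
  by_contra! hne
  obtain ⟨V, hxV, -, ⟨g₁, hg₁⟩, g₂, hg₂⟩ := EffCartier.exists_isEqn₂ h₁ h₂ (x := x) (W := ⊤) trivial
  have hJ : EffCartier.IsEqn (I₁ * I₂) V (g₁ * g₂) := ⟨mul_mem hg₁.mem hg₂.mem, by
    rw [IdealSheafData.ideal_mul, Pi.mul_apply, hg₁.ideal_eq, hg₂.ideal_eq,
      Ideal.span_singleton_mul_span_singleton]⟩
  have hm₁ : x ∈ X.basicOpen g₁ := by rw [EffCartier.basicOpen_eq hg₁]; exact ⟨hne.1, hxV⟩
  have hm₂ : x ∈ X.basicOpen g₂ := by rw [EffCartier.basicOpen_eq hg₂]; exact ⟨hne.2, hxV⟩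
  have hm : x ∈ X.basicOpen (g₁ * g₂) := by rw [Scheme.basicOpen_mul]; exact ⟨hm₁, hm₂⟩
  rw [EffCartier.basicOpen_eq hJ] at hm
  exact hm.1 hx

/-- The sum of two finite locally free relative divisors is finite. -/
theorem isFinite_mul (I₁ I₂ : X.IdealSheafData) (h₁ : Mor2.IsFinLocFree (I₁.subschemeι ≫ f))
    (h₂ : Mor2.IsFinLocFree (I₂.subschemeι ≫ f)) : IsFinite ((I₁ * I₂).subschemeι ≫ f) := by
  obtain ⟨hfin₁, hf₁, hp₁⟩ := h₁
  obtain ⟨hfin₂, hf₂, hp₂⟩ := h₂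
  have hc₁ := isEffCartierIdeal_of_isFinLocFree f I₁ hfin₁ hf₁ hp₁
  have hc₂ := isEffCartierIdeal_of_isFinLocFree f I₂ hfin₂ hf₂ hp₂
  let q := (I₁ * I₂).subschemeι ≫ f
  obtain ⟨hq, hp⟩ := locallyQuasiFinite_and_lfp f _ (EffCartier.isEffCartierIdeal_mul hc₁ hc₂)
    (flat_mul f I₁ I₂ hc₁ hc₂ hf₁ hf₂)
  let π : I₁.subscheme ⨿ I₂.subscheme ⟶ (I₁ * I₂).subscheme :=
    coprod.desc (IdealSheafData.inclusion (mul_le_left I₁ I₂)) (IdealSheafData.inclusion (mul_le_right I₁ I₂))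
  have hπ : π ≫ q = coprod.desc (I₁.subschemeι ≫ f) (I₂.subschemeι ≫ f) := by
    ext <;> simp [π, q]
  haveI : IsFinite (coprod.desc (I₁.subschemeι ≫ f) (I₂.subschemeι ≫ f)) := inferInstance
  haveI : IsFinite (π ≫ q) := hπ ▸ inferInstance
  haveI : IsClosedImmersion (IdealSheafData.inclusion (mul_le_left I₁ I₂)) :=
    haveI : IsClosedImmersion (IdealSheafData.inclusion (mul_le_left I₁ I₂) ≫ (I₁ * I₂).subschemeι) := by
      rw [IdealSheafData.inclusion_subschemeι]; infer_instance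
    .of_comp _ (I₁ * I₂).subschemeι
  haveI : IsClosedImmersion (IdealSheafData.inclusion (mul_le_right I₁ I₂)) :=
    haveI : IsClosedImmersion (IdealSheafData.inclusion (mul_le_right I₁ I₂) ≫ (I₁ * I₂).subschemeι) := by
      rw [IdealSheafData.inclusion_subschemeι]; infer_instance
    .of_comp _ (I₁ * I₂).subschemeι
  haveI : IsFinite π := inferInstanceAs (IsFinite (coprod.desc _ _))
  haveI : Surjective π := ⟨fun z => by
    have hx : (I₁ * I₂).subschemeι z ∈ (I₁ * I₂).support := by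
      rw [← SetLike.mem_coe, ← IdealSheafData.range_subschemeι]; exact ⟨z, rfl⟩
    rcases mem_support_of_mul I₁ I₂ hc₁ hc₂ hx with h | h <;>
      rw [← SetLike.mem_coe, ← IdealSheafData.range_subschemeι] at h <;> obtain ⟨w, hw⟩ := h
    · refine ⟨(coprod.inl : I₁.subscheme ⟶ I₁.subscheme ⨿ I₂.subscheme) w,
        (I₁ * I₂).subschemeι.isClosedEmbedding.injective ?_⟩
      rw [← Scheme.Hom.comp_apply, ← Scheme.Hom.comp_apply, coprod.inl_desc_assoc, IdealSheafData.inclusion_subschemeι]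
      exact hw
    · refine ⟨(coprod.inr : I₂.subscheme ⟶ I₁.subscheme ⨿ I₂.subscheme) w,
        (I₁ * I₂).subschemeι.isClosedEmbedding.injective ?_⟩
      rw [← Scheme.Hom.comp_apply, ← Scheme.Hom.comp_apply, coprod.inr_desc_assoc, IdealSheafData.inclusion_subschemeι]
      exact hw⟩
  haveI : IsSeparated q := H12.isSeparated_of_surjective_universallyClosed (π ≫ q) q π rfl
  haveI : UniversallyClosed q := UniversallyClosed.of_comp_surjective π q
  haveI : LocallyOfFinitePresentation q := hp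
  haveI : LocallyQuasiFinite q := hq
  haveI : IsProper q := {}
  exact IsFinite.of_isProper_of_locallyQuasiFinite q

/-- The rank of a sum of relative divisors is the sum of the ranks. -/
theorem finrank_mul (I₁ I₂ : X.IdealSheafData)
    (h₁ : Mor2.IsFinLocFree (I₁.subschemeι ≫ f)) (h₂ : Mor2.IsFinLocFree (I₂.subschemeι ≫ f)) (s : S) :
    ((I₁ * I₂).subschemeι ≫ f).finrank s =
      (I₁.subschemeι ≫ f).finrank s + (I₂.subschemeι ≫ f).finrank s := by
  have hfinJ := isFinite_mul f I₁ I₂ h₁ h₂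
  obtain ⟨hfin₁, hf₁, hp₁⟩ := h₁
  obtain ⟨hfin₂, hf₂, hp₂⟩ := h₂
  have hc₁ := isEffCartierIdeal_of_isFinLocFree f I₁ hfin₁ hf₁ hp₁
  have hc₂ := isEffCartierIdeal_of_isFinLocFree f I₂ hfin₂ hf₂ hp₂
  have hfJ := flat_mul f I₁ I₂ hc₁ hc₂ hf₁ hf₂
  let ι := (I₁ * I₂).subschemeι
  let q := ι ≫ f
  haveI : IsFinite q := hfinJ
  haveI : Flat q := hfJ
  let E₁ := I₁.comap ι
  let E₂ := I₂.comap ι
  have key : ∀ (I : X.IdealSheafData), I₁ * I₂ ≤ I → IsFinite (I.subschemeι ≫ f) →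
      Flat (I.subschemeι ≫ f) →
      ∃ (_ : IsFinite ((I.comap ι).subschemeι ≫ q)) (_ : Flat ((I.comap ι).subschemeι ≫ q)),
        ((I.comap ι).subschemeι ≫ q).finrank s = (I.subschemeι ≫ f).finrank s := by
    intro I hle hfi hfl
    obtain ⟨e, he⟩ := exists_iso_comap hle
    have heq : (I.comap ι).subschemeι ≫ q = e.hom ≫ I.subschemeι ≫ f := by
      rw [← Category.assoc, ← he, Category.assoc]
    rw [heq]
    refine ⟨inferInstance, inferInstance, ?_⟩
    rw [Scheme.Hom.finrank_comp_left_of_isIso]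
  obtain ⟨hEf₁, hEl₁, hEd₁⟩ := key I₁ (mul_le_left _ _) hfin₁ hf₁
  obtain ⟨hEf₂, hEl₂, hEd₂⟩ := key I₂ (mul_le_right _ _) hfin₂ hf₂
  obtain ⟨_, ⟨U, hU, rfl⟩, hsU, -⟩ := S.isBasis_affineOpens.exists_subset_of_mem_open
    (Set.mem_univ s) isOpen_univ
  let W : (I₁ * I₂).subscheme.affineOpens := ⟨q ⁻¹ᵁ U, hU.preimage q⟩
  algebraize [(q.app U).hom]
  haveI : Module.Finite Γ(S, U) Γ((I₁ * I₂).subscheme, W.1) := q.finite_app U hU
  haveI : Module.Flat Γ(S, U) Γ((I₁ * I₂).subscheme, W.1) := flat_app q hU W.2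
  have hflat : ∀ E : (I₁ * I₂).subscheme.IdealSheafData, Flat (E.subschemeι ≫ q) →
      Module.Flat Γ(S, U) (Γ((I₁ * I₂).subscheme, W.1) ⧸ E.ideal W) := fun E hE => by
    rw [← RingHom.flat_algebraMap_iff]
    have := prop_quotient (P := @Flat) q E hE ⟨U, hU⟩ W le_rfl
    rwa [← Scheme.Hom.app_eq_appLE] at this
  haveI := hflat E₁ hEl₁
  haveI := hflat E₂ hEl₂
  have hrk : ∀ E : (I₁ * I₂).subscheme.IdealSheafData, ∀ [IsFinite (E.subschemeι ≫ q)] [Flat (E.subschemeι ≫ q)],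
      Module.rankAtStalk (R := Γ(S, U)) (Γ((I₁ * I₂).subscheme, W.1) ⧸ E.ideal W) (hU.primeIdealOf ⟨s, hsU⟩) =
        (E.subschemeι ≫ q).finrank s := fun E _ _ => by
    rw [← finrank_subscheme_eq q E hU s hsU, ← RingHom.finrank_algebraMap]
    rfl
  rw [← finrank_eq_app q hU s hsU, ← hEd₁, ← hEd₂, ← hrk E₁, ← hrk E₂]
  show Module.rankAtStalk (R := Γ(S, U)) Γ((I₁ * I₂).subscheme, W.1) _ = _
  refine rankAtStalk_add (E₁.ideal W) (E₂.ideal W) ?_ (fun P hP => ?_) _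
  · have h0 : E₁ * E₂ = ⊥ := by rw [← EffCartier.comap_mul, comap_self]
    have := congrArg (fun E => E.ideal W) h0
    simpa using this
  · -- the chart at the point `z` of `P`
    let z := W.2.fromSpec ⟨P, hP⟩
    have hzW : z ∈ W.1 := by
      show z ∈ (W.1 : Set _)
      rw [← W.2.range_fromSpec]; exact ⟨_, rfl⟩
    obtain ⟨V, hxV, -, ⟨g₁, hg₁⟩, g₂, hg₂⟩ := EffCartier.exists_isEqn₂ hc₁ hc₂ (x := ι z) (W := ⊤) trivial
    let V' : (I₁ * I₂).subscheme.affineOpens := ⟨ι ⁻¹ᵁ V.1, V.2.preimage ι⟩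
    obtain ⟨r, r', hrr', hzr⟩ := exists_basicOpen_le_affine_inter W.2 V'.2 z ⟨hzW, hxV⟩
    let B := (I₁ * I₂).subscheme.affineBasicOpen (U := W) r
    have hBV : B.1 ≤ V'.1 := by
      show (I₁ * I₂).subscheme.basicOpen r ≤ V'.1
      rw [hrr']; exact (I₁ * I₂).subscheme.basicOpen_le r'
    haveI hP' := hP
    have hrP : r ∉ P := (SetLike.ext_iff.1 (W.2.fromSpec_preimage_basicOpen r) ⟨P, hP⟩).1 hzr
    letI : Algebra Γ((I₁ * I₂).subscheme, W.1) Γ((I₁ * I₂).subscheme, B.1) :=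
      ((I₁ * I₂).subscheme.presheaf.map (homOfLE ((I₁ * I₂).subscheme.basicOpen_le r)).op).hom.toAlgebra
    haveI : IsLocalization.Away r Γ((I₁ * I₂).subscheme, B.1) := W.2.isLocalization_basicOpen r
    have hmap : ∀ E : (I₁ * I₂).subscheme.IdealSheafData,
        (E.ideal W).map (algebraMap _ Γ((I₁ * I₂).subscheme, B.1)) = E.ideal B := fun E =>
      E.map_ideal ((I₁ * I₂).subscheme.affineBasicOpen_le (V := W) r)
    let φ : Γ(X, V.1) →+* Γ((I₁ * I₂).subscheme, B.1) := (ι.appLE V.1 B.1 hBV).hom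
    have hE : ∀ (I : X.IdealSheafData) g, EffCartier.IsEqn I V g →
        (I.comap ι).ideal B = Ideal.span {φ g} := fun I g hg => EffCartier.comap_ideal_eq_span hg ι B hBV
    refine local_of_away P hrP Γ((I₁ * I₂).subscheme, B.1) (φ g₂) ((hmap E₂).trans (hE I₂ g₂ hg₂))
      fun y hy => ?_
    rw [hmap E₁, hE I₁ g₁ hg₁]
    -- `B` is a basic open of `V'`
    let res := ((I₁ * I₂).subscheme.presheaf.map (homOfLE hBV).op).hom
    letI : Algebra Γ((I₁ * I₂).subscheme, V'.1) Γ((I₁ * I₂).subscheme, B.1) := res.toAlgebra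
    haveI : IsLocalization.Away r' Γ((I₁ * I₂).subscheme, B.1) := by
      exact V'.2.isLocalization_of_eq_basicOpen r' (homOfLE hBV) hrr'
    obtain ⟨⟨y₀, m⟩, hym⟩ := IsLocalization.surj (Submonoid.powers r') y
    obtain ⟨c, rfl⟩ := (I₁ * I₂).subschemeι_app_surjective V y₀
    have hφ : ∀ a : Γ(X, V.1), φ a = res (ι.app V.1 a) := fun a => by
      simp only [φ, res, Scheme.Hom.appLE]
      rfl
    have h1 : res (ι.app V.1 (c * g₂)) = 0 := by
      rw [← hφ, map_mul, hφ c]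
      show algebraMap _ _ _ * _ = 0
      rw [← hym, mul_right_comm, hy, zero_mul]
    obtain ⟨⟨M, hM⟩, hMc⟩ := (IsLocalization.map_eq_zero_iff (Submonoid.powers r') _ _).1 h1
    obtain ⟨M₀, rfl⟩ := (I₁ * I₂).subschemeι_app_surjective V M
    have h2 : M₀ * (c * g₂) ∈ (I₁ * I₂).ideal V := by
      rw [← IdealSheafData.ker_subschemeι_app, RingHom.mem_ker, map_mul]
      exact hMc
    rw [IdealSheafData.ideal_mul, Pi.mul_apply, hg₁.ideal_eq, hg₂.ideal_eq,
      Ideal.span_singleton_mul_span_singleton] at h2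
    obtain ⟨d, hd⟩ := Ideal.mem_span_singleton'.1 h2
    have h3 : M₀ * c = d * g₁ := (mul_cancel_right_mem_nonZeroDivisors hg₂.mem).1 (by linear_combination -hd)
    refine (Ideal.mul_unit_mem_iff_mem _ (IsLocalization.map_units _ m)).1 ?_
    rw [hym]
    refine (Ideal.unit_mul_mem_iff_mem _ (IsLocalization.map_units _ (⟨_, hM⟩ : Submonoid.powers r'))).1 ?_
    show res (ι.app V.1 M₀) * res (ι.app V.1 c) ∈ _
    rw [← hφ, ← hφ, ← map_mul, h3, map_mul]
    exact Ideal.mul_mem_left _ _ (Ideal.mem_span_singleton_self _)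

/-- The degree of a sum of relative divisors is the sum of the degrees. -/
theorem isFinLocFreeOfDeg_mul (I₁ I₂ : X.IdealSheafData) (d₁ d₂ : ℕ)
    (h₁ : Mor2.IsFinLocFreeOfDeg d₁ (I₁.subschemeι ≫ f)) (h₂ : Mor2.IsFinLocFreeOfDeg d₂ (I₂.subschemeι ≫ f)) :
    Mor2.IsFinLocFreeOfDeg (d₁ + d₂) ((I₁ * I₂).subschemeι ≫ f) := by
  obtain ⟨⟨hfin₁, hf₁, hp₁⟩, hd₁⟩ := h₁
  obtain ⟨⟨hfin₂, hf₂, hp₂⟩, hd₂⟩ := h₂
  have hc₁ := isEffCartierIdeal_of_isFinLocFree f I₁ hfin₁ hf₁ hp₁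
  have hc₂ := isEffCartierIdeal_of_isFinLocFree f I₂ hfin₂ hf₂ hp₂
  have hfJ := flat_mul f I₁ I₂ hc₁ hc₂ hf₁ hf₂
  exact ⟨⟨isFinite_mul f I₁ I₂ ⟨hfin₁, hf₁, hp₁⟩ ⟨hfin₂, hf₂, hp₂⟩, hfJ,
    (locallyQuasiFinite_and_lfp f _ (EffCartier.isEffCartierIdeal_mul hc₁ hc₂) hfJ).2⟩, fun s => by
    rw [finrank_mul f I₁ I₂ ⟨hfin₁, hf₁, hp₁⟩ ⟨hfin₂, hf₂, hp₂⟩ s, hd₁, hd₂]⟩

/-- The residual divisor of a finite locally free relative divisor in a bigger one. -/
theorem isFinLocFreeOfDeg_colon (I₁ I₂ : X.IdealSheafData) (hle : I₂ ≤ I₁) (d₁ d₂ : ℕ)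
    (h₁ : Mor2.IsFinLocFreeOfDeg d₁ (I₁.subschemeι ≫ f)) (h₂ : Mor2.IsFinLocFreeOfDeg d₂ (I₂.subschemeι ≫ f)) :
    ∃ I : X.IdealSheafData, Mor2.IsFinLocFreeOfDeg (d₂ - d₁) (I.subschemeι ≫ f) ∧ I₂ = I₁ * I := by
  obtain ⟨⟨hfin₁, hf₁, hp₁⟩, hd₁⟩ := h₁
  obtain ⟨⟨hfin₂, hf₂, hp₂⟩, hd₂⟩ := h₂
  have hc₁ := isEffCartierIdeal_of_isFinLocFree f I₁ hfin₁ hf₁ hp₁
  have hc₂ := isEffCartierIdeal_of_isFinLocFree f I₂ hfin₂ hf₂ hp₂
  let I := EffCartier.colon I₂ hc₁
  have hI : I * I₁ = I₂ := EffCartier.colon_mul hc₁ hle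
  have hc : BlowUp.IsEffCartierIdeal I := EffCartier.isEffCartierIdeal_of_mul_left (J := I₁) (hI.symm ▸ hc₂)
  have hleI : I₂ ≤ I := hI ▸ mul_le_left I I₁
  haveI : IsClosedImmersion (IdealSheafData.inclusion hleI) :=
    haveI : IsClosedImmersion (IdealSheafData.inclusion hleI ≫ I₂.subschemeι) := by
      rw [IdealSheafData.inclusion_subschemeι]; infer_instance
    .of_comp _ I₂.subschemeι
  have hfinI : IsFinite (I.subschemeι ≫ f) := by
    rw [← IdealSheafData.inclusion_subschemeι hleI, Category.assoc]; infer_instance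
  have hfI : Flat (I.subschemeι ≫ f) := by
    refine (HasRingHomProperty.iff_exists_appLE (P := @Flat)
      (RingHom.Flat.stableUnderComposition.stableUnderCompositionWithLocalizationAway
        RingHom.Flat.holdsForLocalizationAway).left).2 fun z => ?_
    obtain ⟨_, ⟨U, hU, rfl⟩, hsU, -⟩ := S.isBasis_affineOpens.exists_subset_of_mem_open
      (Set.mem_univ (f (I.subschemeι z))) isOpen_univ
    obtain ⟨V, hxV, e, ⟨g₁, hg₁⟩, c, hg⟩ :=
      EffCartier.exists_isEqn₂ hc₁ hc (x := I.subschemeι z) (W := f ⁻¹ᵁ U) hsU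
    have e' : I.subschemeι ⁻¹ᵁ V.1 ≤ (I.subschemeι ≫ f) ⁻¹ᵁ U := I.subschemeι.preimage_mono e
    refine ⟨⟨U, hU⟩, ⟨_, V.2.preimage I.subschemeι⟩, hxV, e',
      appLE_prop_of_quotient f I RingHom.Flat.respectsIso ⟨U, hU⟩ V e e' ?_⟩
    algebraize [(f.appLE U V.1 e).hom]
    have hV : ∀ (J : X.IdealSheafData), Flat (J.subschemeι ≫ f) →
        Module.Flat Γ(S, U) (Γ(X, V.1) ⧸ J.ideal V) := fun J hJ => by
      rw [← RingHom.flat_algebraMap_iff]
      exact prop_quotient (P := @Flat) f J hJ ⟨U, hU⟩ V e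
    haveI : Module.Flat Γ(S, U) (Γ(X, V.1) ⧸ Ideal.span {g₁}) := hg₁.ideal_eq ▸ hV I₁ hf₁
    haveI : Module.Flat Γ(S, U) (Γ(X, V.1) ⧸ Ideal.span {c * g₁}) := by
      have := hV I₂ hf₂
      rw [← hI, IdealSheafData.ideal_mul, Pi.mul_apply, hg.ideal_eq, hg₁.ideal_eq,
        Ideal.span_singleton_mul_span_singleton] at this
      exact this
    have := flat_quotient_left (A := Γ(S, U)) (g := c) hg₁.mem
    rw [← hg.ideal_eq] at this
    exact RingHom.flat_algebraMap_iff.2 this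
  have hIf : Mor2.IsFinLocFree (I.subschemeι ≫ f) :=
    ⟨hfinI, hfI, (locallyQuasiFinite_and_lfp f I hc hfI).2⟩
  refine ⟨I, ⟨hIf, fun s => ?_⟩, by rw [mul_comm, hI]⟩
  have h := finrank_mul f I I₁ hIf ⟨hfin₁, hf₁, hp₁⟩ s
  rw [hI, hd₂, hd₁] at h
  omega

end Groth.Agent.CurveCartier25
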